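import Cfsg.Agent.Lib.ThreeCC.CubeModel

set_option autoImplicit false

/-!
The case where the normalizer of `T` is the even part of `S₃ × S₃ × S₃`.
-/

namespace CfsgLib.ThreeCC

open scoped commutatorElement

variable {G : Type*} [Group G] [Finite G] {d : Setting G} (m : CubeModel d)

theorem CubeModel.exists_normal : ∃ N : Subgroup G, N.Normal ∧ m.ι A1 ∈ N ∧ N ≠ ⊤ := by
  classical
  let e : K27 ≃* m.ι.range := MonoidHom.ofInjective m.inj
  let π : m.ι.range →* Equiv.Perm (Fin 3) := pointHom.comp (fstK.comp e.symm.toMonoidHom)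
  have hπ : Function.Surjective π := fun σ => by
    obtain ⟨g, hg⟩ := pointHom_surj σ
    obtain ⟨k, hk⟩ := k27_fst_surj g
    exact ⟨e k, by simp [π, hk, hg]⟩
  have hπ3 : ∀ s : m.ι.range, π s ^ 3 = 1 → π s ≠ 1 → fstK (e.symm s) ^ 3 = 1 ∧ fstK (e.symm s) ≠ 1 :=
    fun s h1 h2 => (pointHom_three _).mp ⟨h1, h2⟩
  have hval : ∀ s : m.ι.range, m.ι (e.symm s) = (s : G) := fun s =>
    congrArg Subtype.val (e.apply_symm_apply s)
  have hfour : ∀ k : K27, fstK k ^ 3 = 1 → fstK k ≠ 1 →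
      m.ι k ^ 4 ∈ (d.T : Subgroup G) ∧ m.ι k ^ 4 ≠ 1 := fun k h1 h2 => by
    refine ⟨?_, fun h => k27_pow_four k h1 h2 (m.inj (by rw [map_pow, h, map_one]))⟩
    rw [← map_pow]
    exact m.three_mem (by rw [← pow_mul, show (4 * 3 : ℕ) = 6 * 2 by norm_num, pow_mul, k27_pow_six, one_pow])
  have hA1 : A1 * A1 = 1 ∧ A1 ≠ 1 := ⟨k27_misc.2.2.2.2.2.2.1, k27_misc.2.2.2.2.2.2.2.1⟩
  refine exists_normal_of_no_product m.ι.range π hπ ?_ ?_ ?_
  · intro g s h1 h2 hs h3 h4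
    obtain ⟨a1, a2⟩ := hπ3 s h1 h2
    obtain ⟨b1, b2⟩ := hπ3 _ h3 h4
    obtain ⟨hsT, hs1⟩ := hfour _ a1 a2
    obtain ⟨hsT', -⟩ := hfour _ b1 b2
    rw [hval] at hsT hs1 hsT'
    rw [m.range]
    exact d.ctrl hsT hs1 (by rw [← conj_pow]; exact hsT')
  · rw [← map_mul, hA1.1, map_one]
  · intro s h1 h2 x hx hy
    obtain ⟨a1, a2⟩ := hπ3 s h1 h2
    obtain ⟨hsT, hs1⟩ := hfour _ a1 a2
    rw [hval] at hsT hs1
    have hsq : ∀ z, IsConj (m.ι A1) z → z * z = 1 ∧ z ≠ 1 := fun z hz => by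
      obtain ⟨g, rfl⟩ := isConj_iff.mp hz
      have hb2 : m.ι A1 * m.ι A1 = 1 := by rw [← map_mul, hA1.1, map_one]
      refine ⟨by rw [show g * m.ι A1 * g⁻¹ * (g * m.ι A1 * g⁻¹) = g * (m.ι A1 * m.ι A1) * g⁻¹ by group, hb2]; group,
        fun e => hA1.2 (m.inj (by rw [map_one]; exact conj_eq_one_iff.mp e))⟩
    obtain ⟨hx2, hx1⟩ := hsq x hx
    obtain ⟨hy2, hy1⟩ := hsq _ hy
    have hinv : x * (s : G) * x⁻¹ = (s : G)⁻¹ := by
      have hxi : x⁻¹ = x := inv_eq_of_mul_eq_one_right hx2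
      rw [hxi] at hy2 ⊢
      exact eq_inv_of_mul_eq_one_left (by simpa [mul_assoc] using hy2)
    have hxN := d.inv_mem_normalizer hsT hs1 (by rw [← conj_pow, hinv, inv_pow])
    obtain ⟨kx, rfl⟩ := m.mem.mp hxN
    set ky := kx⁻¹ * e.symm s with hky
    have hyval : m.ι ky = (m.ι kx)⁻¹ * (s : G) := by rw [hky, map_mul, map_inv, hval]
    rw [← hyval] at hy hy2 hy1
    have htype : ∀ k : K27, IsConj (m.ι A1) (m.ι k) → m.ι k * m.ι k = 1 → m.ι k ≠ 1 → fstK k = 1 := by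
      intro k hk h2 h1
      rcases k27_types k (m.inj (by rw [map_mul, map_one]; exact h2))
          (fun e => h1 (by rw [e, map_one])) with h | ⟨g, hg⟩ | ⟨g, hg⟩
      · exact h
      · exact (m.not_conj (hk.trans (isConj_iff.mpr ⟨m.ι g, by rw [← hg, map_mul, map_mul, map_inv]⟩).symm)).elim
      · exact (m.not_conj_three
          (hk.trans (isConj_iff.mpr ⟨m.ι g, by rw [← hg, map_mul, map_mul, map_inv]⟩).symm)).elim
    have hk1 := htype kx hx hx2 hx1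
    have hk2 := htype ky hy hy2 hy1
    apply a2
    have : fstK (kx * ky) = 1 := by rw [map_mul, hk1, hk2, one_mul]
    rwa [hky, mul_inv_cancel_left] at this

theorem CubeModel.exists_avoid : ∃ M : Subgroup G, M.Normal ∧ m.ι U2 ∈ M ∧ m.ι U3 ∈ M ∧ m.ι U1 ∉ M := by
  haveI : Fact (Nat.Prime 3) := ⟨Nat.prime_three⟩
  obtain ⟨N, hN, hAN, hNtop⟩ := m.exists_normal
  obtain ⟨h13, h23, h33, -, -, -, -, -, c2, c3, d2, d3, hu1⟩ := k27_misc
  have hcm : ∀ k, A1 * k * A1⁻¹ * k⁻¹ = k → m.ι k ∈ N := fun k hk => by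
    rw [← hk, map_mul, map_mul, map_mul, map_inv, map_inv,
      show m.ι A1 * m.ι k * (m.ι A1)⁻¹ * (m.ι k)⁻¹ = m.ι A1 * (m.ι k * (m.ι A1)⁻¹ * (m.ι k)⁻¹) by group]
    exact mul_mem hAN (hN.conj_mem _ (inv_mem hAN) _)
  have hU2 := hcm U2 c2
  have hU3 := hcm U3 c3
  by_cases huN : m.ι U1 ∈ N
  swap
  · exact ⟨N, hN, hU2, hU3, huN⟩
  have hU : ∀ i j l : ℕ, m.ι (U1 ^ i * U2 ^ j * U3 ^ l) ∈ N := fun i j l => by
    rw [map_mul, map_mul, map_pow, map_pow, map_pow]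
    exact mul_mem (mul_mem (pow_mem huN _) (pow_mem hU2 _)) (pow_mem hU3 _)
  have hTN : (d.T : Subgroup G) ≤ N := fun t ht => by
    obtain ⟨k, rfl⟩ := m.mem.mp (Subgroup.le_normalizer ht)
    obtain ⟨i, j, l, rfl⟩ := k27_three k (m.inj (by rw [map_pow, d.exp _ ht, map_one]))
    exact hU _ _ _
  have hfst : ∀ k : K27, m.ι k ∈ N → fstK k ^ 3 = 1 := fun k hk => by
    by_contra hk3
    apply hNtop
    obtain ⟨i, j, l, h⟩ := k27_reflect k hk3
    have hkU : m.ι (k * (U1 ^ i.1 * U2 ^ j.1 * U3 ^ l.1)) ∈ N := by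
      rw [map_mul]; exact mul_mem hk (hU _ _ _)
    have hA2 : m.ι A2 ∈ N := by
      rcases h with h | h
      · rwa [h] at hkU
      · rw [← h, map_mul]; exact mul_mem hAN hkU
    have hHN : Subgroup.normalizer ((d.T : Subgroup G) : Set G) ≤ N := fun x hx => by
      obtain ⟨g, rfl⟩ := m.mem.mp hx
      obtain ⟨i', j', l', e, f, rfl⟩ := k27_full g
      rw [map_mul, map_mul, map_pow, map_pow]
      exact mul_mem (mul_mem (hU _ _ _) (pow_mem hAN _)) (pow_mem hA2 _)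
    have hsup := Sylow.normalizer_sup_eq_top (d.T.subtype hTN)
    rw [Sylow.coe_subtype, Subgroup.map_subgroupOf_eq_of_le hTN] at hsup
    rw [eq_top_iff, ← hsup]
    exact sup_le hHN le_rfl
  set TN := d.T.subtype hTN with hTNdef
  have hTNab : IsMulCommutative (TN : Subgroup N) :=
    ⟨⟨fun a b => Subtype.ext (Subtype.ext (d.ab _ a.2 _ b.2))⟩⟩
  have hfoc := CfsgLib.TransferApps.inf_pResidual_eq_of_abelian TN hTNab
  let M := (Cfsg.pResidual 3 N).map N.subtype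
  have hMn : M.Normal := by
    haveI : (Cfsg.pResidual 3 N).Characteristic := Subgroup.characteristic_iff_map_eq.mpr fun φ =>
      CfsgLib.Transfer.map_pResidual_of_surjective φ.toMonoidHom φ.surjective
    infer_instance
  have hA' : (⟨m.ι A1, hAN⟩ : N) ∈ Subgroup.normalizer ((TN : Subgroup N) : Set N) := by
    rw [Subgroup.mem_normalizer_iff]
    intro y
    exact Subgroup.mem_normalizer_iff.mp (m.mem.mpr ⟨A1, rfl⟩) (y : G)
  have hin : ∀ k, k ^ 3 = 1 → k * A1 * k⁻¹ * A1⁻¹ = k⁻¹ → (hk : m.ι k ∈ N) → m.ι k ∈ M := fun k h3 hc hk => by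
    have hk' : (⟨m.ι k, hk⟩ : N) ∈ (TN : Subgroup N) := m.three_mem h3
    have h : ⁅(⟨m.ι k, hk⟩ : N), (⟨m.ι A1, hAN⟩ : N)⁆ ∈ (TN : Subgroup N) ⊓ Cfsg.pResidual 3 N :=
      hfoc ▸ Subgroup.commutator_mem_commutator hk' hA'
    have h2 : m.ι k * m.ι A1 * (m.ι k)⁻¹ * (m.ι A1)⁻¹ ∈ M := ⟨_, h.2, rfl⟩
    rw [← map_inv, ← map_inv, ← map_mul, ← map_mul, ← map_mul, hc, map_inv] at h2
    exact inv_mem_iff.mp h2
  refine ⟨M, hMn, hin U2 h23 d2 hU2, hin U3 h33 d3 hU3, ?_⟩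
  rintro ⟨y, hy, hyu⟩
  have hyT : y ∈ (TN : Subgroup N) := by
    show (y : G) ∈ (d.T : Subgroup G)
    rw [show (y : G) = m.ι U1 from hyu]
    exact m.three_mem h13
  have hall : ∀ z ∈ ⁅(TN : Subgroup N), Subgroup.normalizer ((TN : Subgroup N) : Set N)⁆,
      ∃ k : K27, fstK k = 1 ∧ m.ι k = (z : G) := by
    suffices h : ⁅(TN : Subgroup N), Subgroup.normalizer ((TN : Subgroup N) : Set N)⁆ ≤
        (fstK.ker.map m.ι).subgroupOf N by
      intro z hz
      obtain ⟨k, hk, hkz⟩ := h hz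
      exact ⟨k, hk, hkz⟩
    rw [Subgroup.commutator_le]
    intro t ht n hn
    have hn' : (n : G) ∈ Subgroup.normalizer ((d.T : Subgroup G) : Set G) := by
      rw [Subgroup.mem_normalizer_iff]
      intro x
      constructor
      · intro hx
        exact (Subgroup.mem_normalizer_iff.mp hn ⟨x, hTN hx⟩).mp hx
      · intro hx
        have hxN : x ∈ N := by simpa [mul_assoc] using hN.conj_mem _ (hTN hx) ((n : G)⁻¹)
        exact (Subgroup.mem_normalizer_iff.mp hn ⟨x, hxN⟩).mpr hx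
    obtain ⟨kn, hkn⟩ := m.mem.mp hn'
    obtain ⟨kt, hkt⟩ := m.mem.mp (Subgroup.le_normalizer (show (t : G) ∈ (d.T : Subgroup G) from ht))
    refine ⟨kt * kn * kt⁻¹ * kn⁻¹, ?_, ?_⟩
    · show fstK _ = 1
      simp only [map_mul, map_inv]
      exact k27_comm_fst _ _ (hfst kt (hkt ▸ t.2)) (hfst kn (hkn ▸ n.2))
    · simp only [map_mul, map_inv, hkt, hkn]
      rfl
  obtain ⟨k, hk, hky⟩ := hall y (hfoc.le ⟨hyT, hy⟩)
  exact hu1 (m.inj (hky.trans hyu) ▸ hk)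

include m in
/-- With normalizer the even part of `S₃ × S₃ × S₃` the Sylow subgroup is normal. -/
theorem CubeModel.top : Subgroup.normalizer ((d.T : Subgroup G) : Set G) = ⊤ := by
  haveI : Fact (Nat.Prime 3) := ⟨Nat.prime_three⟩
  obtain ⟨M₁, hM₁, h12, h13, h11⟩ := m.exists_avoid
  obtain ⟨M₂, hM₂, h23, h21, h22⟩ := m.shift.exists_avoid
  obtain ⟨e1, e2, e3, -, -, -⟩ := shift_vals
  change m.ι (shiftK U2) ∈ M₂ at h23
  change m.ι (shiftK U3) ∈ M₂ at h21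
  change m.ι (shiftK U1) ∉ M₂ at h22
  rw [e2] at h23
  rw [e3] at h21
  rw [e1] at h22
  obtain ⟨g13, g23, g33, gu1, -, gu3, -⟩ := k27_misc
  haveI := hM₁
  haveI := hM₂
  have hcard : Nat.card (Subgroup.normalizer ((d.T : Subgroup G) : Set G)) = 108 := by
    rw [← m.range, ← Nat.card_congr (MonoidHom.ofInjective m.inj).toEquiv, Nat.card_eq_fintype_card, k27_card]
  refine d.top_of_self_centralizing ?_ ?_ ?_ (M₁ ⊓ M₂) (m.three_mem g33) (m.ne_one gu3) ⟨h13, h23⟩ ?_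
  · intro hcyc
    haveI := hcyc
    obtain ⟨⟨g, hg⟩, hgen⟩ := IsCyclic.exists_generator (α := (d.T : Subgroup G))
    have hle : Nat.card (d.T : Subgroup G) ≤ 3 := by
      rw [← orderOf_eq_card_of_forall_mem_zpowers hgen]
      exact Nat.le_of_dvd (by norm_num) (orderOf_dvd_of_pow_eq_one (Subtype.ext (d.exp g hg)))
    let f : Fin 3 × Fin 3 → (d.T : Subgroup G) := fun p => ⟨m.ι (U1 ^ p.1.1 * U2 ^ p.2.1), by
      rw [map_mul, map_pow, map_pow]
      exact mul_mem (pow_mem (m.three_mem g13) _) (pow_mem (m.three_mem g23) _)⟩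
    have hf : Function.Injective f := fun p q h => by
      have h' := m.inj (congrArg Subtype.val h)
      revert h'; clear h; revert p q
      decide +kernel
    have := Nat.card_le_card_of_injective f hf
    rw [Nat.card_prod, Nat.card_fin] at this
    omega
  · rw [hcard]; norm_num
  · rw [hcard]; norm_num
  · rintro x ⟨hx1, hx2⟩ hxv
    obtain ⟨k, rfl⟩ := m.mem.mp (d.cent _ (m.three_mem g33) (m.ne_one gu3)
      (Subgroup.mem_centralizer_singleton_iff.mpr hxv))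
    have hcomm : ∀ (M : Subgroup G), M.Normal → m.ι k ∈ M → ∀ u, k * u * k⁻¹ * u⁻¹ = u → m.ι u ∈ M :=
      fun M hM hk u hu => by
        rw [← hu, map_mul, map_mul, map_mul, map_inv, map_inv,
          show m.ι k * m.ι u * (m.ι k)⁻¹ * (m.ι u)⁻¹ = m.ι k * (m.ι u * (m.ι k)⁻¹ * (m.ι u)⁻¹) by group]
        exact mul_mem hk (hM.conj_mem _ (inv_mem hk) _)
    rcases k27_cent k (m.inj (by rw [map_mul, map_mul]; exact hxv)) with
      ⟨l, rfl⟩ | h | h | ⟨j, l, h⟩ | ⟨l, h⟩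
    · rw [map_pow]; exact pow_mem (Subgroup.mem_zpowers _) _
    · exact absurd (hcomm M₁ hM₁ hx1 U1 h) h11
    · exact absurd (hcomm M₂ hM₂ hx2 U2 h) h22
    · have h' : m.ι (k * (U2 ^ j.1 * U3 ^ l.1)) ∈ M₁ := by
        rw [map_mul, map_mul, map_pow, map_pow]
        exact mul_mem hx1 (mul_mem (pow_mem h12 _) (pow_mem h13 _))
      rcases h with h | h <;> rw [h] at h'
      · exact absurd h' h11
      · rw [map_inv, inv_mem_iff] at h'; exact absurd h' h11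
    · have h' : m.ι (k * U3 ^ l.1) ∈ M₂ := by
        rw [map_mul, map_pow]
        exact mul_mem hx2 (pow_mem h23 _)
      rcases h with h | h <;> rw [h] at h'
      · exact absurd h' h22
      · rw [map_inv, inv_mem_iff] at h'; exact absurd h' h22

end CfsgLib.ThreeCC
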