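import Mathlib
import Cfsg.Agent.S3331
import Cfsg.Agent.Lib.Basic
import Cfsg.Agent.Lib.CoprimeGen
import Cfsg.Agent.Lib.SLCard

set_option autoImplicit false

/-!
An abelian Sylow 3-subgroup `T` of exponent three such that the centralizers of its nonidentity elements lie
in its normalizer.
-/

namespace CfsgLib.ThreeCC

variable {G : Type*} [Group G] [Finite G]

/-- The local setting. -/
structure Setting (G : Type*) [Group G] [Finite G] where
  T : Sylow 3 G
  ab : ∀ s ∈ (T : Subgroup G), ∀ t ∈ (T : Subgroup G), s * t = t * s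
  exp : ∀ t ∈ (T : Subgroup G), t ^ 3 = 1
  self : Subgroup.centralizer ((T : Subgroup G) : Set G) ≤ (T : Subgroup G)
  cent : ∀ t ∈ (T : Subgroup G), t ≠ 1 →
    Subgroup.centralizer ({t} : Set G) ≤ Subgroup.normalizer ((T : Subgroup G) : Set G)

variable (d : Setting G)

theorem Setting.mem_T_of_pow {x : G} (hx : x ∈ Subgroup.normalizer ((d.T : Subgroup G) : Set G))
    (h : x ^ 3 = 1) : x ∈ (d.T : Subgroup G) := by
  haveI : Fact (Nat.Prime 3) := ⟨Nat.prime_three⟩
  have hX : IsPGroup 3 (Subgroup.zpowers x) := by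
    rintro ⟨y, m, rfl⟩
    refine ⟨1, Subtype.ext ?_⟩
    show (x ^ m) ^ 3 ^ 1 = 1
    rw [pow_one, ← zpow_natCast, ← zpow_mul, mul_comm, zpow_mul, zpow_natCast, h, one_zpow]
  have h2 := d.T.3 (hX.to_sup_of_normal_right' d.T.2 (Subgroup.zpowers_le.mpr hx)) le_sup_right
  exact h2.le (Subgroup.mem_sup_left (Subgroup.mem_zpowers x))

/-- Fusion in `T` is controlled by its normalizer, strongly. -/
theorem Setting.ctrl {g t : G} (ht : t ∈ (d.T : Subgroup G)) (ht1 : t ≠ 1)
    (hgt : g * t * g⁻¹ ∈ (d.T : Subgroup G)) : g ∈ Subgroup.normalizer ((d.T : Subgroup G) : Set G) := by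
  rw [Subgroup.mem_normalizer_iff]
  have hsub : ∀ s ∈ (d.T : Subgroup G), g * s * g⁻¹ ∈ (d.T : Subgroup G) := fun s hs => by
    have hne : g * t * g⁻¹ ≠ 1 := fun e => ht1 (conj_eq_one_iff.mp e)
    refine d.mem_T_of_pow (d.cent _ hgt hne (Subgroup.mem_centralizer_singleton_iff.mpr ?_)) ?_
    · rw [show g * s * g⁻¹ * (g * t * g⁻¹) = g * (s * t) * g⁻¹ by group, d.ab s hs t ht]
      group
    · rw [conj_pow, d.exp s hs]
      group
  intro s
  refine ⟨hsub s, fun hs => ?_⟩
  let f : ↥(d.T : Subgroup G) → ↥(d.T : Subgroup G) := fun x => ⟨g * x * g⁻¹, hsub x x.2⟩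
  have hf : Function.Injective f := fun x y h => by
    have h' : g * (x : G) * g⁻¹ = g * y * g⁻¹ := congrArg Subtype.val h
    exact Subtype.ext (mul_left_cancel (mul_right_cancel h'))
  obtain ⟨⟨r, hr⟩, hrs⟩ := (Finite.injective_iff_surjective.mp hf) ⟨_, hs⟩
  have h' : g * r * g⁻¹ = g * s * g⁻¹ := congrArg Subtype.val hrs
  rw [← mul_left_cancel (mul_right_cancel h')]
  exact hr

theorem Setting.inv_mem_normalizer {x t : G} (ht : t ∈ (d.T : Subgroup G)) (ht1 : t ≠ 1)
    (h : x * t * x⁻¹ = t⁻¹) : x ∈ Subgroup.normalizer ((d.T : Subgroup G) : Set G) :=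
  d.ctrl ht ht1 (h ▸ inv_mem ht)

/-- A cyclic normal subgroup of `T` makes `T` normal. -/
theorem Setting.top_of_normal_zpowers {v : G} (hv : v ∈ (d.T : Subgroup G)) (hv1 : v ≠ 1)
    (hn : (Subgroup.zpowers v).Normal) : Subgroup.normalizer ((d.T : Subgroup G) : Set G) = ⊤ := by
  refine eq_top_iff.mpr fun g _ => d.ctrl hv hv1 ?_
  exact (Subgroup.zpowers_le.mpr hv) (hn.conj_mem v (Subgroup.mem_zpowers v) g)

/-- There is no nontrivial normal subgroup of order prime to three. -/
theorem Setting.normal_coprime_eq_bot (hnc : ¬ IsCyclic (d.T : Subgroup G)) (K : Subgroup G) [K.Normal]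
    (hK : (Nat.card K).Coprime 3) : K = ⊥ := by
  haveI : Fact (Nat.Prime 3) := ⟨Nat.prime_three⟩
  haveI : IsMulCommutative (d.T : Subgroup G) := ⟨⟨fun a b => Subtype.ext (d.ab a a.2 b b.2)⟩⟩
  have hcopT : (Nat.card (d.T : Subgroup G)).Coprime (Nat.card K) := by
    obtain ⟨n, hn⟩ := d.T.2.exists_card_eq
    rw [hn]
    exact hK.symm.pow_left n
  have hdisj : ∀ y ∈ K, y ∈ (d.T : Subgroup G) → y = 1 := fun y hy hyT => by
    have h1 : orderOf y ∣ 3 := orderOf_dvd_of_pow_eq_one (d.exp y hyT)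
    have h2 : orderOf y ∣ Nat.card K := Subgroup.orderOf_dvd_natCard K hy
    have h3 := Nat.dvd_gcd h2 h1
    rw [hK.gcd_eq_one, Nat.dvd_one, orderOf_eq_one_iff] at h3
    exact h3
  rw [eq_bot_iff, ← CfsgLib.coprime_generated_by_centralizers hnc
    (show (d.T : Subgroup G) ≤ Subgroup.normalizer (K : Set G) by
      rw [Subgroup.normalizer_eq_top]; exact le_top) hcopT]
  refine iSup₂_le fun a ha x hx => ?_
  obtain ⟨hxK, hxa⟩ := hx
  have hxN := d.cent a ha.1 ha.2 hxa
  refine Subgroup.mem_bot.mpr (hdisj x hxK (d.self (Subgroup.mem_centralizer_iff.mpr fun t ht => ?_)))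
  have e : t * x * t⁻¹ * x⁻¹ = 1 :=
    hdisj _ (mul_mem ((inferInstance : K.Normal).conj_mem x hxK t) (inv_mem hxK))
      (by rw [show t * x * t⁻¹ * x⁻¹ = t * (x * t⁻¹ * x⁻¹) by group]
          exact mul_mem ht ((Subgroup.mem_normalizer_iff.mp hxN t⁻¹).mp (inv_mem ht)))
  rw [mul_inv_eq_one, mul_inv_eq_iff_eq_mul] at e
  exact e

theorem card_psl_two_seven : Nat.card (Matrix.ProjectiveSpecialLinearGroup (Fin 2) (ZMod 7)) = 168 := by
  haveI : Fact (Nat.Prime 7) := ⟨by norm_num⟩
  have h := CfsgLib.SLCard.gcd_mul_card_PSL (F := ZMod 7) (n := 2) (by norm_num)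
  rw [CfsgLib.SLCard.card_SL_two, ZMod.card] at h
  have h' : 2 * Nat.card (Matrix.ProjectiveSpecialLinearGroup (Fin 2) (ZMod 7)) = 336 := h
  omega

/-- In the simple cases an element of order three centralizes an element of order `p`. -/
theorem exists_three_centralizing (M : Subgroup G) [M.Normal] (h9 : 9 ∣ Nat.card G) {p : ℕ} [Fact p.Prime]
    (hp3 : ¬ 9 ∣ p - 1) (hpM : p ∣ Nat.card M) (hMp : ¬ p ^ 2 ∣ Nat.card M)
    (hn : ∀ n : ℕ, n ∣ Nat.card M → n % p = 1 → ¬ p ∣ n → (¬ 3 ∣ n) ∨ (¬ 3 ∣ p - 1 ∧ ¬ 9 ∣ n)) :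
    ∃ r t : G, orderOf r = p ∧ orderOf t = 3 ∧ t * r = r * t := by
  haveI : Fact (Nat.Prime 3) := ⟨Nat.prime_three⟩
  have hp := (Fact.out : p.Prime)
  obtain ⟨R⟩ := (inferInstance : Nonempty (Sylow p M))
  set R' := (R : Subgroup M).map M.subtype with hR'
  set N := Subgroup.normalizer (R' : Set G) with hN
  have hcardR : Nat.card R' = p := by
    rw [hR', Subgroup.card_map_of_injective M.subtype_injective]
    obtain ⟨k, hk⟩ := R.2.exists_card_eq
    have h1 : p ∣ Nat.card (R : Subgroup M) := Sylow.dvd_card_of_dvd_card R hpM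
    have h2 : Nat.card (R : Subgroup M) ∣ Nat.card M := Subgroup.card_subgroup_dvd_card _
    rw [hk] at h1 h2 ⊢
    rcases k with _ | _ | k
    · rw [pow_zero] at h1; exact absurd (Nat.dvd_one.mp h1) hp.one_lt.ne'
    · rw [zero_add, pow_one]
    · exact absurd ((pow_dvd_pow p (by omega)).trans h2) hMp
  have hidx : N.index = Nat.card (Sylow p M) := by
    have hsup : N ⊔ M = ⊤ := Sylow.normalizer_sup_eq_top R
    have h1 : N.relIndex (N ⊔ M) = N.index := by rw [hsup, Subgroup.relIndex_top_right]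
    have h2 : N.relIndex M = Nat.card (Sylow p M) := by
      rw [Sylow.card_eq_index_normalizer R, Subgroup.relIndex]
      congr 1
      ext m
      simp only [Subgroup.mem_subgroupOf, hN, hR', Subgroup.mem_normalizer_iff]
      have hmm : ∀ y : M, (y : G) ∈ (R : Subgroup M).map M.subtype ↔ y ∈ (R : Subgroup M) := fun y =>
        Subgroup.mem_map_iff_mem M.subtype_injective
      constructor
      · intro h x
        exact (hmm x).symm.trans ((h x).trans (hmm (m * x * m⁻¹)))
      · intro h x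
        constructor
        · rintro ⟨y, hy, rfl⟩
          exact ⟨m * y * m⁻¹, (h y).mp hy, by simp⟩
        · rintro ⟨y, hy, he⟩
          refine ⟨m⁻¹ * y * m, ?_, ?_⟩
          · exact (h _).mpr (by simpa [mul_assoc] using hy)
          · simp only [Subgroup.coe_subtype, Subgroup.coe_mul, InvMemClass.coe_inv] at he ⊢
            rw [he]; group
    rw [← h2]
    have e1 := Subgroup.relIndex_mul_index (inf_le_right : M ⊓ N ≤ N)
    have e2 := Subgroup.relIndex_mul_index (inf_le_left : M ⊓ N ≤ M)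
    rw [Subgroup.inf_relIndex_right] at e1
    rw [Subgroup.inf_relIndex_left] at e2
    have e3 : M.index = M.relIndex N := by
      rw [← Subgroup.relIndex_top_right, ← hsup, Subgroup.relIndex_sup_right]
    rw [e3, ← e1, mul_comm] at e2
    have hne : M.relIndex N ≠ 0 := e3 ▸ Subgroup.index_ne_zero_of_finite
    exact (Nat.eq_of_mul_eq_mul_left (Nat.pos_of_ne_zero hne) e2).symm
  have hndvd : Nat.card (Sylow p M) ∣ Nat.card M := R.card_dvd_index.trans (Subgroup.index_dvd_card _)
  have hnmod : Nat.card (Sylow p M) % p = 1 := by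
    have := card_sylow_modEq_one p M
    rwa [Nat.ModEq, Nat.mod_eq_of_lt hp.one_lt] at this
  have hNcard : Nat.card (Sylow p M) * Nat.card N = Nat.card G := by
    rw [← hidx, mul_comm]; exact N.card_mul_index
  -- the centralizer of R inside its normalizer
  set C := Subgroup.centralizer (R' : Set G) with hC
  have hCdvd : (C.subgroupOf N).index ∣ p - 1 := by
    haveI : IsCyclic R' := isCyclic_of_prime_card hcardR
    rw [← Subgroup.normalizerMonoidHom_ker R', Subgroup.index_ker]
    have h := Subgroup.card_subgroup_dvd_card (Subgroup.normalizerMonoidHom R').range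
    have hA : Nat.card (MulAut R') = p - 1 := by
      rw [IsCyclic.card_mulAut, hcardR, Nat.totient_prime hp]
    rwa [hA] at h
  have hCN : Nat.card (C.subgroupOf N) * (C.subgroupOf N).index = Nat.card N := Subgroup.card_mul_index _
  have hC3 : 3 ∣ Nat.card (C.subgroupOf N) := by
    by_contra hc
    have hc' : Nat.Coprime 9 (Nat.card (C.subgroupOf N)) :=
      ((Nat.Prime.coprime_iff_not_dvd Nat.prime_three).mpr hc).pow_left 2
    rcases hn _ hndvd hnmod (fun h => by
      have := Nat.mod_eq_zero_of_dvd h; omega) with h | ⟨h, h'⟩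
    · have hN9 : 9 ∣ Nat.card N := by
        have : Nat.Coprime 9 (Nat.card (Sylow p M)) :=
          ((Nat.Prime.coprime_iff_not_dvd Nat.prime_three).mpr h).pow_left 2
        exact this.dvd_of_dvd_mul_left (hNcard.symm ▸ h9)
      exact hp3 ((hc'.dvd_of_dvd_mul_left (hCN.symm ▸ hN9)).trans hCdvd)
    · have hN3 : 3 ∣ Nat.card N := by
        by_contra h3
        have : Nat.Coprime 9 (Nat.card N) :=
          ((Nat.Prime.coprime_iff_not_dvd Nat.prime_three).mpr h3).pow_left 2
        exact h' (this.dvd_of_dvd_mul_right (hNcard.symm ▸ h9))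
      exact h (((Nat.Prime.coprime_iff_not_dvd Nat.prime_three).mpr hc).dvd_of_dvd_mul_left
        (hCN.symm ▸ hN3) |>.trans hCdvd)
  obtain ⟨t, ht⟩ := exists_prime_orderOf_dvd_card' (G := C.subgroupOf N) 3 hC3
  obtain ⟨r, hr⟩ := exists_prime_orderOf_dvd_card' (G := R') p (by rw [hcardR])
  refine ⟨(r : G), ((t : N) : G), by rw [Subgroup.orderOf_coe, hr], ?_, ?_⟩
  · rw [Subgroup.orderOf_coe, Subgroup.orderOf_coe, ht]
  · exact (Subgroup.mem_centralizer_iff.mp t.2 r r.2).symm

/-- The last step: a normal subgroup meeting `T` in a self-centralizing subgroup of order three. -/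
theorem Setting.top_of_self_centralizing (hnc : ¬ IsCyclic (d.T : Subgroup G))
    (h5 : ¬ 5 ∣ Nat.card (Subgroup.normalizer ((d.T : Subgroup G) : Set G)))
    (h7 : ¬ 7 ∣ Nat.card (Subgroup.normalizer ((d.T : Subgroup G) : Set G)))
    (M : Subgroup G) [M.Normal] {v : G} (hvT : v ∈ (d.T : Subgroup G)) (hv1 : v ≠ 1) (hvM : v ∈ M)
    (hC : ∀ m ∈ M, m * v = v * m → m ∈ Subgroup.zpowers v) :
    Subgroup.normalizer ((d.T : Subgroup G) : Set G) = ⊤ := by
  haveI : Fact (Nat.Prime 3) := ⟨Nat.prime_three⟩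
  have hv3 : orderOf v = 3 := orderOf_eq_prime (d.exp v hvT) hv1
  have h9 : 9 ∣ Nat.card G := by
    obtain ⟨n, hn⟩ := d.T.2.exists_card_eq
    have h2 : 2 ≤ n := by
      by_contra h
      apply hnc
      rcases (show n = 0 ∨ n = 1 by omega) with rfl | rfl
      · haveI : Subsingleton (d.T : Subgroup G) := (Nat.card_eq_one_iff_unique.mp hn).1
        infer_instance
      · exact isCyclic_of_prime_card (by rw [hn, pow_one] : Nat.card (d.T : Subgroup G) = 3)
    exact (show (9 : ℕ) = 3 ^ 2 by norm_num) ▸ (pow_dvd_pow 3 h2).trans (hn ▸ Subgroup.card_subgroup_dvd_card _)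
  have hnop : ∀ p : ℕ, p = 5 ∨ p = 7 → ∀ r t : G, orderOf r = p → orderOf t = 3 → t * r = r * t → False := by
    intro p hp r t hr ht hc
    have ht3 : t ^ 3 = 1 := by rw [← ht]; exact pow_orderOf_eq_one t
    have hX : IsPGroup 3 (Subgroup.zpowers t) := IsPGroup.of_card (n := 1) (by rw [Nat.card_zpowers, ht, pow_one])
    obtain ⟨Q, hQ⟩ := hX.exists_le_sylow
    obtain ⟨g, hg⟩ := MulAction.exists_smul_eq G Q d.T
    have htT : g * t * g⁻¹ ∈ (d.T : Subgroup G) := by
      rw [← hg, Sylow.coe_subgroup_smul, Subgroup.mem_pointwise_smul_iff_inv_smul_mem]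
      simpa [MulAut.smul_def, mul_assoc] using hQ (Subgroup.mem_zpowers t)
    have hrN := d.cent _ htT (fun e => by
        rw [conj_eq_one_iff] at e
        rw [e, orderOf_one] at ht
        norm_num at ht) (Subgroup.mem_centralizer_singleton_iff.mpr (show g * r * g⁻¹ * (g * t * g⁻¹) = g * t * g⁻¹ * (g * r * g⁻¹) by
          rw [show g * r * g⁻¹ * (g * t * g⁻¹) = g * (r * t) * g⁻¹ by group, ← hc]; group))
    have hd := Subgroup.orderOf_dvd_natCard _ hrN
    rw [show g * r * g⁻¹ = MulAut.conj g r by rfl, MulEquiv.orderOf_eq, hr] at hd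
    rcases hp with rfl | rfl
    exacts [h5 hd, h7 hd]
  have hX : Nat.card (Subgroup.zpowers (⟨v, hvM⟩ : M)) = 3 := by
    rw [Nat.card_zpowers, ← Subgroup.orderOf_coe, hv3]
  have hXC : Subgroup.centralizer ((Subgroup.zpowers (⟨v, hvM⟩ : M) : Subgroup M) : Set M) =
      Subgroup.zpowers (⟨v, hvM⟩ : M) := by
    refine le_antisymm (fun m hm => ?_) (Subgroup.le_centralizer _)
    have h := (Subgroup.mem_centralizer_iff.mp hm) _ (Subgroup.mem_zpowers (⟨v, hvM⟩ : M))
    obtain ⟨k, hk⟩ := Subgroup.mem_zpowers_iff.mp (hC m m.2 (congrArg Subtype.val h).symm)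
    exact Subgroup.mem_zpowers_iff.mpr ⟨k, Subtype.ext (by simpa using hk)⟩
  have hcore : ∀ L : Subgroup M, L.Normal → (Nat.card L).Coprime 3 → L = ⊥ := fun L hL hL3 => by
    have h1 : L ≤ Cfsg.pPrimeCore 3 M := by haveI := hL; exact CfsgLib.le_pPrimeCore hL3
    have h2 : (Cfsg.pPrimeCore 3 M).map M.subtype = ⊥ := by
      refine d.normal_coprime_eq_bot hnc _ ?_
      rw [Subgroup.card_map_of_injective M.subtype_injective]
      exact CfsgLib.card_pPrimeCore_coprime 3
    rw [Subgroup.map_eq_bot_iff_of_injective _ M.subtype_injective] at h2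
    rw [eq_bot_iff, ← h2]
    exact h1
  rcases Cfsg.Agent.S3331.result (Subgroup.zpowers (⟨v, hvM⟩ : M)) hX hXC with
    ⟨L, hL, -, hL3, hcase⟩ | ⟨L, hL, -, hL2, ⟨e⟩⟩ | ⟨⟨e⟩⟩
  · obtain rfl := hcore L hL hL3
    have hcardM : Nat.card M ≤ 6 := by
      rw [Nat.card_congr (QuotientGroup.quotientBot (G := M)).toEquiv] at hcase
      rcases hcase with h | ⟨⟨e⟩⟩
      · omega
      · rw [Nat.card_congr (QuotientGroup.quotientBot (G := M)).toEquiv.symm, Nat.card_congr e.toEquiv,
          Nat.card_perm, Nat.card_fin]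
        norm_num [Nat.factorial]
    refine d.top_of_normal_zpowers hvT hv1 ⟨fun x hx g => ?_⟩
    obtain ⟨k, rfl⟩ := Subgroup.mem_zpowers_iff.mp hx
    rw [← conj_zpow]
    refine Subgroup.zpow_mem _ ?_ k
    -- the subgroup generated by v has index at most two in M
    by_contra hnot
    set w := g * v * g⁻¹ with hw
    have hwM : w ∈ M := (inferInstance : M.Normal).conj_mem v hvM g
    have hw3 : orderOf w = 3 := by
      rw [hw, show g * v * g⁻¹ = MulAut.conj g v by rfl, MulEquiv.orderOf_eq, hv3]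
    let f : Fin 3 × Fin 3 → M := fun p => ⟨v ^ p.1.val * w ^ p.2.val, mul_mem (pow_mem hvM _) (pow_mem hwM _)⟩
    have hf : Function.Injective f := fun p q h => by
      have h' : v ^ p.1.val * w ^ p.2.val = v ^ q.1.val * w ^ q.2.val := congrArg Subtype.val h
      have h2 : w ^ ((p.2.val : ℤ) - q.2.val) ∈ Subgroup.zpowers v := by
        have e : w ^ p.2.val * (w ^ q.2.val)⁻¹ = (v ^ p.1.val)⁻¹ * v ^ q.1.val := by
          rw [mul_inv_eq_iff_eq_mul, mul_assoc, ← h', inv_mul_cancel_left]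
        rw [zpow_sub, zpow_natCast, zpow_natCast, e]
        exact mul_mem (inv_mem (pow_mem (Subgroup.mem_zpowers v) _)) (pow_mem (Subgroup.mem_zpowers v) _)
      have hq : p.2 = q.2 := by
        by_contra hne
        apply hnot
        have hd : ((p.2.val : ℤ) - q.2.val) = 1 ∨ ((p.2.val : ℤ) - q.2.val) = -1 ∨
            ((p.2.val : ℤ) - q.2.val) = 2 ∨ ((p.2.val : ℤ) - q.2.val) = -2 := by
          have := p.2.isLt
          have := q.2.isLt
          have : p.2.val ≠ q.2.val := fun e => hne (Fin.ext e)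
          omega
        have h3 : w ^ (3 : ℤ) = 1 := by
          rw [show (3 : ℤ) = ((3 : ℕ) : ℤ) from rfl, zpow_natCast, ← hw3, pow_orderOf_eq_one]
        rcases hd with e | e | e | e <;> rw [e] at h2
        · simpa using h2
        · simpa using inv_mem h2
        · have := inv_mem h2
          rwa [← zpow_neg, show (-2 : ℤ) = 1 - 3 by norm_num, zpow_sub, h3, zpow_one, inv_one, mul_one] at this
        · rwa [show (-2 : ℤ) = 1 - 3 by norm_num, zpow_sub, h3, zpow_one, inv_one, mul_one] at h2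
      rw [hq, mul_left_inj] at h'
      have := pow_injOn_Iio_orderOf (x := v) (by rw [hv3]; exact p.1.isLt) (by rw [hv3]; exact q.1.isLt) h'
      exact Prod.ext (Fin.ext this) hq
    have := Nat.card_le_card_of_injective f hf
    rw [Nat.card_prod, Nat.card_fin] at this
    omega
  · obtain rfl := hcore L hL (by
      have h2 : IsPGroup 2 L := fun n => ⟨1, by
        rw [pow_one]; exact Subtype.ext (hL2 n n.2)⟩
      haveI : Fact (Nat.Prime 2) := ⟨Nat.prime_two⟩
      obtain ⟨k, hk⟩ := h2.exists_card_eq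
      rw [hk]
      exact Nat.Coprime.pow_left k (by norm_num))
    have hc : Nat.card M = 60 := by
      rw [Nat.card_congr (QuotientGroup.quotientBot (G := M)).toEquiv.symm, Nat.card_congr e.toEquiv,
        nat_card_alternatingGroup, Nat.card_fin]
      rfl
    haveI : Fact (Nat.Prime 5) := ⟨by norm_num⟩
    obtain ⟨r, t, hr, ht, hrt⟩ := exists_three_centralizing M h9 (p := 5) (by norm_num) (by rw [hc]; norm_num)
      (by rw [hc]; norm_num) (fun n hn hn1 _ => by
        rw [hc] at hn
        have := Nat.le_of_dvd (by norm_num) hn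
        interval_cases n <;> revert hn hn1 <;> decide)
    exact (hnop 5 (Or.inl rfl) r t hr ht hrt).elim
  · have hc : Nat.card M = 168 := by rw [Nat.card_congr e.toEquiv, card_psl_two_seven]
    haveI : Fact (Nat.Prime 7) := ⟨by norm_num⟩
    obtain ⟨r, t, hr, ht, hrt⟩ := exists_three_centralizing M h9 (p := 7) (by norm_num) (by rw [hc]; norm_num)
      (by rw [hc]; norm_num) (fun n hn hn1 _ => by
        rw [hc] at hn
        have := Nat.le_of_dvd (by norm_num) hn
        interval_cases n <;> revert hn hn1 <;> decide)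
    exact (hnop 7 (Or.inr rfl) r t hr ht hrt).elim

end CfsgLib.ThreeCC
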