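import Cfsg.Agent.Lib.ThreeCC.Chars
import Cfsg.Agent.Lib.ThreeCC.Local
import Cfsg.Agent.Lib.TransferApps

set_option autoImplicit false

/-!
The case where the normalizer of `T` is `S₃ × S₃`.
-/

namespace CfsgLib.ThreeCC

open scoped commutatorElement

abbrev D3 := DihedralGroup 3
abbrev K9 := D3 × D3

def uK : K9 := (DihedralGroup.r 1, 1)
def vK : K9 := (1, DihedralGroup.r 1)
def aK : K9 := (DihedralGroup.sr 0, 1)
def bK : K9 := (1, DihedralGroup.sr 0)
def cK : K9 := (DihedralGroup.sr 0, DihedralGroup.sr 0)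

/-- The action of `D3` on three points. -/
def pointPerm : D3 → Equiv.Perm (Fin 3)
  | DihedralGroup.r i => Equiv.addRight (show Fin 3 from i)
  | DihedralGroup.sr i => (Equiv.addRight (show Fin 3 from i)).trans (Equiv.neg (Fin 3))

/-- The action of `D3` on three points, as a homomorphism. -/
def pointHom : D3 →* Equiv.Perm (Fin 3) where
  toFun := pointPerm
  map_one' := by decide +kernel
  map_mul' := by decide +kernel

theorem pointHom_surj : Function.Surjective pointHom := by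
  show ∀ σ, ∃ g, pointHom g = σ
  decide +kernel

theorem pointHom_three : ∀ g : D3, (pointHom g ^ 3 = 1 ∧ pointHom g ≠ 1) ↔ (g ^ 3 = 1 ∧ g ≠ 1) := by
  decide +kernel

theorem k9_pow_six : ∀ k : K9, k ^ 6 = 1 := by decide +kernel

theorem k9_inv_types : ∀ x : K9, x * x = 1 → x ≠ 1 →
    x.1 = 1 ∨ (∃ g, g * aK * g⁻¹ = x) ∨ ∃ g, g * cK * g⁻¹ = x := by decide +kernel

theorem k9_x : (aK * vK) ^ 3 = aK ∧ (bK * uK) ^ 3 = bK ∧ (aK * vK) ^ 4 = vK ∧ (bK * uK) ^ 4 = uK := by decide +kernel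

theorem k9_real : (∃ g, g * (aK * vK) * g⁻¹ = (aK * vK)⁻¹) ∧ ∃ g, g * (bK * uK) * g⁻¹ = (bK * uK)⁻¹ := by
  decide +kernel

theorem k9_no_fusion : ∀ g : K9, g * vK * g⁻¹ ≠ uK := by decide +kernel

theorem k9_cent_card : (Finset.univ.filter fun k : K9 => k * (aK * vK) = (aK * vK) * k).card = 6 ∧
    (Finset.univ.filter fun k : K9 => k * (bK * uK) = (bK * uK) * k).card = 6 := by decide +kernel

theorem k9_pow_four_three : ∀ k : K9, k.1 ^ 3 = 1 → k.1 ≠ 1 → k ^ 4 ≠ 1 := by decide +kernel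

theorem k9_full : ∀ k : K9, k.1 ^ 3 ≠ 1 → ∀ g : K9, ∃ i j l m : Fin 3, ∃ e f : Fin 2,
    g = uK ^ i.1 * vK ^ j.1 * bK ^ e.1 * k ^ f.1 * uK ^ l.1 * vK ^ m.1 := by decide +kernel

theorem k9_cent_v : ∀ k : K9, k * vK = vK * k → (∃ i : Fin 3, k = vK ^ i.1) ∨ (k * uK * k⁻¹ * uK⁻¹ = uK) ∨
    ∃ i : Fin 3, k * vK ^ i.1 = uK ∨ k * vK ^ i.1 = uK⁻¹ := by decide +kernel

theorem k9_comm_fst : ∀ t n : K9, t.1 ^ 3 = 1 → n.1 ^ 3 = 1 → (t * n * t⁻¹ * n⁻¹).1 = 1 := by decide +kernel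

theorem k9_three : ∀ k : K9, k ^ 3 = 1 → ∃ i j : Fin 3, k = uK ^ i.1 * vK ^ j.1 := by decide +kernel

theorem k9_misc : vK ^ 3 = 1 ∧ uK ^ 3 = 1 ∧ vK ≠ 1 ∧ bK * bK = 1 ∧ bK * vK * bK⁻¹ * vK⁻¹ = vK ∧
    vK * bK * vK⁻¹ * bK⁻¹ = vK⁻¹ ∧ uK.1 ≠ 1 ∧ Fintype.card K9 = 36 := by decide +kernel

variable {G : Type*} [Group G] [Finite G] (d : Setting G)

/-- The data: an embedding of `S₃ × S₃` onto the normalizer. -/
structure SquareModel (d : Setting G) where
  ι : K9 →* G
  inj : Function.Injective ι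
  range : ι.range = Subgroup.normalizer ((d.T : Subgroup G) : Set G)

variable {d} (m : SquareModel d)

/-- The model with the factors exchanged. -/
def SquareModel.swap : SquareModel d where
  ι := m.ι.comp (MulEquiv.prodComm : K9 ≃* K9).toMonoidHom
  inj := m.inj.comp (MulEquiv.prodComm : K9 ≃* K9).injective
  range := by
    rw [MonoidHom.range_comp, MonoidHom.range_eq_top.mpr (MulEquiv.prodComm : K9 ≃* K9).surjective,
      ← MonoidHom.range_eq_map]
    exact m.range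

theorem SquareModel.mem {x : G} : x ∈ Subgroup.normalizer ((d.T : Subgroup G) : Set G) ↔ ∃ k, m.ι k = x := by
  rw [← m.range]; rfl

theorem SquareModel.three_mem {k : K9} (h : k ^ 3 = 1) : m.ι k ∈ (d.T : Subgroup G) :=
  d.mem_T_of_pow (m.mem.mpr ⟨k, rfl⟩) (by rw [← map_pow, h, map_one])

theorem SquareModel.not_conj_ab : ¬ IsConj (m.ι aK) (m.ι bK) := by
  obtain ⟨e1, e2, e3, e4⟩ := k9_x
  obtain ⟨⟨g1, hg1⟩, ⟨g2, hg2⟩⟩ := k9_real
  rw [← e1, ← e2, map_pow, map_pow]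
  have hcard : ∀ k t : K9, k ^ 4 = t → t ^ 3 = 1 → t ≠ 1 →
      (Finset.univ.filter fun j : K9 => j * k = k * j).card = 6 →
      Nat.card (Subgroup.centralizer ({m.ι k} : Set G)) = 6 := by
    intro k t hk ht ht1 hc
    rw [← hc, ← Fintype.card_subtype, ← Nat.card_eq_fintype_card]
    refine (Nat.card_congr (Equiv.ofBijective (fun j : {j : K9 // j * k = k * j} =>
      (⟨m.ι j.1, Subgroup.mem_centralizer_singleton_iff.mpr (by rw [← map_mul, j.2, map_mul])⟩ :
        Subgroup.centralizer ({m.ι k} : Set G))) ⟨fun a b h => Subtype.ext (m.inj (congrArg Subtype.val h)),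
        fun x => ?_⟩)).symm
    have hx : (x : G) * m.ι k = m.ι k * x := Subgroup.mem_centralizer_singleton_iff.mp x.2
    have hxN := d.cent _ (m.three_mem ht) (fun e => ht1 (m.inj (e.trans (map_one m.ι).symm)))
      (Subgroup.mem_centralizer_singleton_iff.mpr (show (x : G) * m.ι t = m.ι t * x by
        rw [← hk, map_pow]; exact (Commute.pow_right hx 4).eq))
    obtain ⟨j, hj⟩ := m.mem.mp hxN
    refine ⟨⟨j, m.inj (by rw [map_mul, map_mul, hj, hx])⟩, Subtype.ext hj⟩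
  obtain ⟨hv3, hu3, hv1, -, -, -, hu1, -⟩ := k9_misc
  refine not_isConj_of_centralizers ?_ ?_ ?_ ?_ ?_ ?_
  · rw [← map_pow, k9_pow_six, map_one]
  · rw [← map_pow, k9_pow_six, map_one]
  · exact isConj_iff.mpr ⟨m.ι g1, by rw [← map_inv, ← map_mul, ← map_mul, hg1, map_inv]⟩
  · exact isConj_iff.mpr ⟨m.ι g2, by rw [← map_inv, ← map_mul, ← map_mul, hg2, map_inv]⟩
  · intro hc
    obtain ⟨g, hg⟩ := isConj_iff.mp hc
    have h4 : g * m.ι vK * g⁻¹ = m.ι uK := by
      rw [← e3, ← e4, map_pow, map_pow, ← hg, conj_pow]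
    obtain ⟨k, rfl⟩ := m.mem.mp (d.ctrl (m.three_mem hv3)
      (fun e => hv1 (m.inj (e.trans (map_one m.ι).symm))) (h4 ▸ m.three_mem hu3))
    exact k9_no_fusion k (m.inj (by rw [map_mul, map_mul, map_inv]; exact h4))
  · rw [hcard _ vK e3 hv3 hv1 k9_cent_card.1,
      hcard _ uK e4 hu3 (fun e => hu1 (by rw [e]; rfl)) k9_cent_card.2]
    norm_num

theorem SquareModel.exists_normal (hbc : ¬ IsConj (m.ι bK) (m.ι cK)) :
    ∃ N : Subgroup G, N.Normal ∧ m.ι bK ∈ N ∧ N ≠ ⊤ := by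
  classical
  let e : K9 ≃* m.ι.range := MonoidHom.ofInjective m.inj
  let π : m.ι.range →* Equiv.Perm (Fin 3) :=
    pointHom.comp ((MonoidHom.fst D3 D3).comp e.symm.toMonoidHom)
  have hπ : Function.Surjective π := fun σ => by
    obtain ⟨g, hg⟩ := pointHom_surj σ
    exact ⟨e (g, 1), by simp [π, hg]⟩
  have hπ3 : ∀ s : m.ι.range, π s ^ 3 = 1 → π s ≠ 1 → (e.symm s).1 ^ 3 = 1 ∧ (e.symm s).1 ≠ 1 :=
    fun s h1 h2 => (pointHom_three _).mp ⟨h1, h2⟩
  have hval : ∀ s : m.ι.range, m.ι (e.symm s) = (s : G) := fun s =>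
    congrArg Subtype.val (e.apply_symm_apply s)
  have hfour : ∀ k : K9, k.1 ^ 3 = 1 → k.1 ≠ 1 → m.ι k ^ 4 ∈ (d.T : Subgroup G) ∧ m.ι k ^ 4 ≠ 1 := fun k h1 h2 => by
    refine ⟨?_, fun h => k9_pow_four_three k h1 h2 (m.inj (by rw [map_pow, h, map_one]))⟩
    rw [← map_pow]
    exact m.three_mem (by rw [← pow_mul, show (4 * 3 : ℕ) = 6 * 2 by norm_num, pow_mul, k9_pow_six, one_pow])
  refine exists_normal_of_no_product m.ι.range π hπ ?_ ?_ ?_
  · intro g s h1 h2 hs h3 h4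
    obtain ⟨a1, a2⟩ := hπ3 s h1 h2
    obtain ⟨b1, b2⟩ := hπ3 _ h3 h4
    obtain ⟨hsT, hs1⟩ := hfour _ a1 a2
    obtain ⟨hsT', -⟩ := hfour _ b1 b2
    rw [hval] at hsT hs1 hsT'
    rw [m.range]
    exact d.ctrl hsT hs1 (by rw [← conj_pow]; exact hsT')
  · rw [← map_mul, k9_misc.2.2.2.1, map_one]
  · intro s h1 h2 x hx hy
    obtain ⟨a1, a2⟩ := hπ3 s h1 h2
    obtain ⟨hsT, hs1⟩ := hfour _ a1 a2
    rw [hval] at hsT hs1
    have hsq : ∀ z, IsConj (m.ι bK) z → z * z = 1 ∧ z ≠ 1 := fun z hz => by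
      obtain ⟨g, rfl⟩ := isConj_iff.mp hz
      have hb2 : m.ι bK * m.ι bK = 1 := by rw [← map_mul, k9_misc.2.2.2.1, map_one]
      refine ⟨by rw [show g * m.ι bK * g⁻¹ * (g * m.ι bK * g⁻¹) = g * (m.ι bK * m.ι bK) * g⁻¹ by group, hb2]; group,
        fun e => ?_⟩
      have : bK = 1 := m.inj (by rw [map_one]; exact conj_eq_one_iff.mp e)
      exact absurd this (by decide +kernel)
    obtain ⟨hx2, hx1⟩ := hsq x hx
    obtain ⟨hy2, hy1⟩ := hsq _ hy
    have hinv : x * (s : G) * x⁻¹ = (s : G)⁻¹ := by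
      have hxi : x⁻¹ = x := inv_eq_of_mul_eq_one_right hx2
      rw [hxi] at hy2 ⊢
      exact eq_inv_of_mul_eq_one_left (by simpa [mul_assoc] using hy2)
    have hxN := d.inv_mem_normalizer hsT hs1 (by rw [← conj_pow, hinv, inv_pow])
    obtain ⟨kx, rfl⟩ := m.mem.mp hxN
    set ky := kx⁻¹ * e.symm s with hky
    have hyval : m.ι ky = (m.ι kx)⁻¹ * (s : G) := by rw [hky, map_mul, map_inv, hval]
    rw [← hyval] at hy hy2 hy1
    have htype : ∀ k : K9, IsConj (m.ι bK) (m.ι k) → m.ι k * m.ι k = 1 → m.ι k ≠ 1 → k.1 = 1 := by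
      intro k hk h2 h1
      rcases k9_inv_types k (m.inj (by rw [map_mul, map_one]; exact h2))
          (fun e => h1 (by rw [e, map_one])) with h | ⟨g, hg⟩ | ⟨g, hg⟩
      · exact h
      · refine (m.not_conj_ab ?_).elim
        refine (IsConj.trans ?_ hk.symm)
        exact isConj_iff.mpr ⟨m.ι g, by rw [← hg, map_mul, map_mul, map_inv]⟩
      · refine (hbc (hk.trans ?_)).elim
        exact (isConj_iff.mpr ⟨m.ι g, by rw [← hg, map_mul, map_mul, map_inv]⟩).symm
    have hk1 := htype kx hx hx2 hx1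
    have hk2 := htype ky hy hy2 hy1
    apply a2
    have : (kx * ky).1 = 1 := by rw [Prod.fst_mul, hk1, hk2, one_mul]
    rwa [hky, mul_inv_cancel_left] at this

theorem SquareModel.top_of_not_conj (hbc : ¬ IsConj (m.ι bK) (m.ι cK)) :
    Subgroup.normalizer ((d.T : Subgroup G) : Set G) = ⊤ := by
  haveI : Fact (Nat.Prime 3) := ⟨Nat.prime_three⟩
  obtain ⟨N, hN, hbN, hNtop⟩ := m.exists_normal hbc
  obtain ⟨hv3, hu3, hv1, hbb, hbv, hvb, hu1, hcard⟩ := k9_misc
  have hvN : m.ι vK ∈ N := by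
    rw [← hbv, map_mul, map_mul, map_mul, map_inv, map_inv,
      show m.ι bK * m.ι vK * (m.ι bK)⁻¹ * (m.ι vK)⁻¹ = m.ι bK * (m.ι vK * (m.ι bK)⁻¹ * (m.ι vK)⁻¹) by group]
    exact mul_mem hbN (hN.conj_mem _ (inv_mem hbN) _)
  obtain ⟨M, hM, hvM, huM⟩ : ∃ M : Subgroup G, M.Normal ∧ m.ι vK ∈ M ∧ m.ι uK ∉ M := by
    by_cases huN : m.ι uK ∈ N
    swap
    · exact ⟨N, hN, hvN, huN⟩
    have hTN : (d.T : Subgroup G) ≤ N := fun t ht => by
      obtain ⟨k, rfl⟩ := m.mem.mp (Subgroup.le_normalizer ht)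
      obtain ⟨i, j, rfl⟩ := k9_three k (m.inj (by rw [map_pow, d.exp _ ht, map_one]))
      rw [map_mul, map_pow, map_pow]
      exact mul_mem (pow_mem huN _) (pow_mem hvN _)
    have hfst : ∀ k : K9, m.ι k ∈ N → k.1 ^ 3 = 1 := fun k hk => by
      by_contra hk3
      apply hNtop
      have hHN : Subgroup.normalizer ((d.T : Subgroup G) : Set G) ≤ N := fun x hx => by
        obtain ⟨g, rfl⟩ := m.mem.mp hx
        obtain ⟨i, j, l, l', f, f', rfl⟩ := k9_full k hk3 g
        simp only [map_mul, map_pow]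
        exact mul_mem (mul_mem (mul_mem (mul_mem (mul_mem (pow_mem huN _) (pow_mem hvN _)) (pow_mem hbN _))
          (pow_mem hk _)) (pow_mem huN _)) (pow_mem hvN _)
      have hsup := Sylow.normalizer_sup_eq_top (d.T.subtype hTN)
      rw [Sylow.coe_subtype, Subgroup.map_subgroupOf_eq_of_le hTN] at hsup
      rw [eq_top_iff, ← hsup]
      exact sup_le hHN le_rfl
    set TN := d.T.subtype hTN with hTNdef
    have hTNab : IsMulCommutative (TN : Subgroup N) :=
      ⟨⟨fun a b => Subtype.ext (Subtype.ext (d.ab _ a.2 _ b.2))⟩⟩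
    have hfoc := CfsgLib.TransferApps.inf_pResidual_eq_of_abelian TN hTNab
    let M := (Cfsg.pResidual 3 N).map N.subtype
    have hMn : M.Normal := by
      haveI : (Cfsg.pResidual 3 N).Characteristic := Subgroup.characteristic_iff_map_eq.mpr fun φ =>
        CfsgLib.Transfer.map_pResidual_of_surjective φ.toMonoidHom φ.surjective
      infer_instance
    refine ⟨M, hMn, ?_, ?_⟩
    · have hv' : (⟨m.ι vK, hvN⟩ : N) ∈ (TN : Subgroup N) := m.three_mem hv3
      have hb' : (⟨m.ι bK, hbN⟩ : N) ∈ Subgroup.normalizer ((TN : Subgroup N) : Set N) := by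
        rw [Subgroup.mem_normalizer_iff]
        intro y
        exact Subgroup.mem_normalizer_iff.mp (m.mem.mpr ⟨bK, rfl⟩) (y : G)
      have h : ⁅(⟨m.ι vK, hvN⟩ : N), (⟨m.ι bK, hbN⟩ : N)⁆ ∈ (TN : Subgroup N) ⊓ Cfsg.pResidual 3 N :=
        hfoc ▸ Subgroup.commutator_mem_commutator hv' hb'
      have h2 : m.ι vK * m.ι bK * (m.ι vK)⁻¹ * (m.ι bK)⁻¹ ∈ M := ⟨_, h.2, rfl⟩
      rw [← map_inv, ← map_inv, ← map_mul, ← map_mul, ← map_mul, hvb, map_inv] at h2
      exact (inv_mem_iff).mp h2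
    · rintro ⟨y, hy, hyu⟩
      have hyT : y ∈ (TN : Subgroup N) := by
        show (y : G) ∈ (d.T : Subgroup G)
        rw [show (y : G) = m.ι uK from hyu]
        exact m.three_mem hu3
      have hall : ∀ z ∈ ⁅(TN : Subgroup N), Subgroup.normalizer ((TN : Subgroup N) : Set N)⁆,
          ∃ k : K9, k.1 = 1 ∧ m.ι k = (z : G) := by
        let L : Subgroup K9 := (MonoidHom.fst D3 D3).ker
        suffices h : ⁅(TN : Subgroup N), Subgroup.normalizer ((TN : Subgroup N) : Set N)⁆ ≤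
            (L.map m.ι).subgroupOf N by
          intro z hz
          obtain ⟨k, hk, hkz⟩ := h hz
          exact ⟨k, hk, hkz⟩
        rw [Subgroup.commutator_le]
        intro t ht n hn
        have hn' : (n : G) ∈ Subgroup.normalizer ((d.T : Subgroup G) : Set G) := by
          rw [Subgroup.mem_normalizer_iff]
          intro x
          constructor
          · intro hx
            exact (Subgroup.mem_normalizer_iff.mp hn ⟨x, hTN hx⟩).mp hx
          · intro hx
            have hxN : x ∈ N := by simpa [mul_assoc] using hN.conj_mem _ (hTN hx) ((n : G)⁻¹)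
            exact (Subgroup.mem_normalizer_iff.mp hn ⟨x, hxN⟩).mpr hx
        obtain ⟨kn, hkn⟩ := m.mem.mp hn'
        obtain ⟨kt, hkt⟩ := m.mem.mp (Subgroup.le_normalizer (show (t : G) ∈ (d.T : Subgroup G) from ht))
        refine ⟨kt * kn * kt⁻¹ * kn⁻¹, MonoidHom.mem_ker.mpr (k9_comm_fst kt kn
          (hfst kt (hkt ▸ t.2)) (hfst kn (hkn ▸ n.2))), ?_⟩
        simp only [map_mul, map_inv, hkt, hkn]
        rfl
      obtain ⟨k, hk, hky⟩ := hall y (hfoc.le ⟨hyT, hy⟩)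
      exact hu1 (m.inj (hky.trans hyu) ▸ hk)
  haveI := hM
  refine d.top_of_self_centralizing ?_ ?_ ?_ M (m.three_mem hv3)
    (fun e => hv1 (m.inj (e.trans (map_one m.ι).symm))) hvM ?_
  · intro hcyc
    haveI := hcyc
    obtain ⟨⟨g, hg⟩, hgen⟩ := IsCyclic.exists_generator (α := (d.T : Subgroup G))
    have hle : Nat.card (d.T : Subgroup G) ≤ 3 := by
      rw [← orderOf_eq_card_of_forall_mem_zpowers hgen]
      exact Nat.le_of_dvd (by norm_num) (orderOf_dvd_of_pow_eq_one (Subtype.ext (d.exp g hg)))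
    let f : Fin 3 × Fin 3 → (d.T : Subgroup G) := fun p => ⟨m.ι (uK ^ p.1.1 * vK ^ p.2.1), by
      rw [map_mul, map_pow, map_pow]
      exact mul_mem (pow_mem (m.three_mem hu3) _) (pow_mem (m.three_mem hv3) _)⟩
    have hf : Function.Injective f := fun p q h => by
      have h' := m.inj (congrArg Subtype.val h)
      revert h'; clear h; revert p q
      decide +kernel
    have := Nat.card_le_card_of_injective f hf
    rw [Nat.card_prod, Nat.card_fin] at this
    omega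
  · rw [← m.range, ← Nat.card_congr (MonoidHom.ofInjective m.inj).toEquiv, Nat.card_eq_fintype_card, hcard]
    norm_num
  · rw [← m.range, ← Nat.card_congr (MonoidHom.ofInjective m.inj).toEquiv, Nat.card_eq_fintype_card, hcard]
    norm_num
  · intro x hx hxv
    obtain ⟨k, rfl⟩ := m.mem.mp (d.cent _ (m.three_mem hv3) (fun e => hv1 (m.inj (e.trans (map_one m.ι).symm)))
      (Subgroup.mem_centralizer_singleton_iff.mpr hxv))
    rcases k9_cent_v k (m.inj (by rw [map_mul, map_mul]; exact hxv)) with ⟨i, rfl⟩ | h | ⟨i, h | h⟩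
    · rw [map_pow]; exact pow_mem (Subgroup.mem_zpowers _) _
    all_goals refine absurd ?_ huM
    · rw [← h, map_mul, map_mul, map_mul, map_inv, map_inv,
        show m.ι k * m.ι uK * (m.ι k)⁻¹ * (m.ι uK)⁻¹ = m.ι k * (m.ι uK * (m.ι k)⁻¹ * (m.ι uK)⁻¹) by group]
      exact mul_mem hx (hM.conj_mem _ (inv_mem hx) _)
    · rw [← h, map_mul, map_pow]; exact mul_mem hx (pow_mem hvM _)
    · have h' : m.ι (k * vK ^ i.1) ∈ M := by rw [map_mul, map_pow]; exact mul_mem hx (pow_mem hvM _)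
      rw [h, map_inv] at h'
      exact inv_mem_iff.mp h'

include m in
/-- With normalizer `S₃ × S₃` the Sylow subgroup is normal. -/
theorem SquareModel.top : Subgroup.normalizer ((d.T : Subgroup G) : Set G) = ⊤ := by
  by_cases hbc : IsConj (m.ι bK) (m.ι cK)
  · refine m.swap.top_of_not_conj fun h => m.not_conj_ab ?_
    have h' : IsConj (m.ι aK) (m.ι cK) := h
    exact h'.trans hbc.symm
  · exact m.top_of_not_conj hbc

end CfsgLib.ThreeCC
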