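import Mathlib
import Cfsg.Agent.Lib.CharTheory.Irr
import Cfsg.Agent.Lib.CharTheory.Induced
import Cfsg.Agent.Lib.CharTheory.Integral
import Cfsg.Agent.Lib.CharTheory.TI
import Cfsg.Agent.Lib.CharTheory.Linear
import Cfsg.Agent.Lib.CharTheory.PowerMap
import Cfsg.Agent.Lib.BSW.PairCount

set_option autoImplicit false

/-!
Two character-theoretic tools for groups with a strongly isolated Sylow 3-subgroup.

`not_isConj_of_centralizers`: two classes of real elements of order dividing six with small centralizers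
cannot have conjugate 2-parts.

`exists_normal_of_no_product`: an involution class no product of two members of which meets the support of a
virtual character of norm three lies in a proper normal subgroup.
-/

namespace CfsgLib.ThreeCC

open Cfsg CfsgLib.CharTheory
open scoped ComplexConjugate

universe u

variable {G : Type u} [Group G] [Finite G]

/-- A real element of order dividing six has integer character values. -/
theorem char_int_six {x : G} (h6 : x ^ 6 = 1) (hr : IsConj x x⁻¹) (χ : IrrCharacter G) :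
    ∃ n : ℤ, (χ : G → ℂ) x = n := by
  obtain ⟨⟨f, hf⟩, rfl⟩ : ∃ c, c = χ := ⟨χ, rfl⟩
  have hchar := isCharacter_of_irr hf
  obtain ⟨d, ρ, hρ, rfl⟩ := hf
  show ∃ n : ℤ, ρ.character x = n
  have hreal : conj (ρ.character x) = ρ.character x := by
    rw [← char_apply_inv hchar x]
    exact (isClassFunction_iff_isConj.mp (isClassFunction_char hchar) x x⁻¹ hr).symm
  have hμ : ∀ μ ∈ charRoots ρ x, ∃ m : ℤ, μ + conj μ = m := by
    intro μ hμ
    have h1 : μ ^ 6 = 1 := by
      have e := pow_eq_one_of_mem_charRoots ρ x hμ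
      obtain ⟨k, hk⟩ := orderOf_dvd_of_pow_eq_one h6
      rw [hk, pow_mul, e, one_pow]
    have h0 : μ ≠ 0 := fun e => by rw [e] at h1; norm_num at h1
    have hn : conj μ = μ⁻¹ := by
      apply eq_inv_of_mul_eq_one_right
      rw [Complex.mul_conj', norm_eq_one_of_mem_charRoots ρ x hμ]
      norm_num
    rw [hn]
    have hf : (μ - 1) * (μ + 1) * (μ ^ 2 + μ + 1) * (μ ^ 2 - μ + 1) = 0 := by linear_combination h1
    rcases mul_eq_zero.1 hf with e | e
    rcases mul_eq_zero.1 e with e | e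
    rcases mul_eq_zero.1 e with e | e
    · exact ⟨2, by rw [sub_eq_zero.1 e]; norm_num⟩
    · exact ⟨-2, by rw [eq_neg_of_add_eq_zero_left e]; norm_num⟩
    · refine ⟨-1, ?_⟩; push_cast; field_simp; linear_combination e
    · refine ⟨1, ?_⟩; push_cast; field_simp; linear_combination e
  have hsum : ∀ s : Multiset ℂ, (∀ μ ∈ s, ∃ m : ℤ, μ + conj μ = m) → ∃ m : ℤ, s.sum + conj s.sum = m := by
    intro s
    induction s using Multiset.induction_on with
    | empty => exact fun _ => ⟨0, by simp⟩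
    | cons a s ih =>
      intro hs
      obtain ⟨m, hm⟩ := hs a (Multiset.mem_cons_self a s)
      obtain ⟨k, hk⟩ := ih fun μ hμ => hs μ (Multiset.mem_cons_of_mem hμ)
      refine ⟨m + k, ?_⟩
      rw [Multiset.sum_cons, map_add]
      push_cast
      linear_combination hm + hk
  obtain ⟨m, hm⟩ := hsum _ hμ
  rw [← character_eq_sum_charRoots, hreal] at hm
  have hq : ρ.character x = (((m : ℚ) / 2 : ℚ) : ℂ) := by push_cast; linear_combination hm / 2
  obtain ⟨n, hn⟩ := exists_int_of_isIntegral_ratCast (q := (m : ℚ) / 2)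
    (by rw [← hq]; exact isIntegral_character ρ x)
  exact ⟨n, by rw [hq, hn]; push_cast; rfl⟩

/-- Two classes of real elements `x`, `y` of order dividing six whose cubes are conjugate:
the sum of their centralizer orders is divisible by nine. -/
theorem not_isConj_of_centralizers {x y : G} (hx : x ^ 6 = 1) (hy : y ^ 6 = 1) (hxr : IsConj x x⁻¹)
    (hyr : IsConj y y⁻¹) (hxy : ¬ IsConj x y)
    (hc : ¬ 9 ∣ Nat.card (Subgroup.centralizer ({x} : Set G)) + Nat.card (Subgroup.centralizer ({y} : Set G))) :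
    ¬ IsConj (x ^ 3) (y ^ 3) := by
  classical
  haveI := Fintype.ofFinite G
  haveI : Fact (Nat.Prime 3) := ⟨Nat.prime_three⟩
  intro hab
  choose nx hnx using char_int_six hx hxr
  choose ny hny using char_int_six hy hyr
  have hx3 : ∀ χ : IrrCharacter G, ∃ n : ℤ, (χ : G → ℂ) (x ^ 3) = n := by
    refine char_int_six ?_ ?_
    · rw [← pow_mul, show (3 * 6 : ℕ) = 6 * 3 by norm_num, pow_mul, hx, one_pow]
    · rw [show (x ^ 3)⁻¹ = x ^ 3 from inv_eq_of_mul_eq_one_right (by rw [← pow_add]; exact hx)]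
  choose nz hnz using hx3
  have hmod : ∀ χ : IrrCharacter G, (3 : ℤ) ∣ nx χ - ny χ := fun χ => by
    have hg := isGenChar_of_char (isCharacter_of_irr χ.2)
    have h1 := genChar_frob_modEq hg (p := 3) x 1 (hnx χ) (b := nz χ) (by rw [pow_one]; exact hnz χ)
    have h2 := genChar_frob_modEq hg (p := 3) y 1 (hny χ) (b := nz χ) (by
      rw [pow_one, ← hnz χ]
      exact (isClassFunction_iff_isConj.mp (isClassFunction_irr χ.2) _ _ hab).symm)
    exact (h2.symm.trans h1).dvd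
  have hxx := sum_irr_mul_conj x x
  have hyy := sum_irr_mul_conj y y
  have hxy0 := sum_irr_mul_conj x y
  rw [if_pos (IsConj.refl x)] at hxx
  rw [if_pos (IsConj.refl y)] at hyy
  rw [if_neg hxy] at hxy0
  simp only [hnx, hny, map_intCast] at hxx hyy hxy0
  have e : ∑ χ : IrrCharacter G, (nx χ - ny χ) ^ 2 =
      (Nat.card (Subgroup.centralizer ({x} : Set G)) : ℤ) + Nat.card (Subgroup.centralizer ({y} : Set G)) := by
    have e' : ((∑ χ : IrrCharacter G, (nx χ - ny χ) ^ 2 : ℤ) : ℂ) =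
        (Nat.card (Subgroup.centralizer ({x} : Set G)) : ℂ) + Nat.card (Subgroup.centralizer ({y} : Set G)) := by
      push_cast
      rw [← hxx, ← hyy, ← Finset.sum_add_distrib]
      calc ∑ χ : IrrCharacter G, ((nx χ : ℂ) - ny χ) ^ 2
          = ∑ χ : IrrCharacter G, ((nx χ : ℂ) * nx χ + (ny χ : ℂ) * ny χ)
              - 2 * ∑ χ : IrrCharacter G, (nx χ : ℂ) * ny χ := by
            rw [Finset.mul_sum, ← Finset.sum_sub_distrib]
            exact Finset.sum_congr rfl fun χ _ => by ring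
        _ = _ := by rw [hxy0]; ring
    exact_mod_cast e'
  have h9 : (9 : ℤ) ∣ ∑ χ : IrrCharacter G, (nx χ - ny χ) ^ 2 :=
    Finset.dvd_sum fun χ _ => by
      obtain ⟨k, hk⟩ := hmod χ
      exact ⟨k ^ 2, by rw [hk]; ring⟩
  rw [e] at h9
  exact hc (by exact_mod_cast h9)

/-- Three times the indicator of the three-cycles. -/
noncomputable def s3Fun (σ : Equiv.Perm (Fin 3)) : ℂ := if σ ^ 3 = 1 ∧ σ ≠ 1 then 3 else 0

/-- The permutation representation on three points. -/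
noncomputable def permRep : Representation ℂ (Equiv.Perm (Fin 3)) (Fin 3 → ℂ) where
  toFun σ := Matrix.toLin' ((σ⁻¹).permMatrix ℂ)
  map_one' := by rw [inv_one, Matrix.permMatrix_one, Matrix.toLin'_one]; rfl
  map_mul' σ τ := by rw [mul_inv_rev, Matrix.permMatrix_mul, Matrix.toLin'_mul]; rfl

theorem permRep_char (σ : Equiv.Perm (Fin 3)) :
    permRep.character σ = ((Finset.univ.filter fun i => σ i = i).card : ℂ) := by
  show LinearMap.trace ℂ _ (Matrix.toLin' ((σ⁻¹).permMatrix ℂ)) = _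
  rw [Matrix.trace_toLin'_eq, Matrix.trace_permutation]
  norm_cast
  rw [Set.ncard_eq_toFinset_card']
  refine congrArg Finset.card (Finset.ext fun i => ?_)
  simp [Function.mem_fixedPoints, Function.IsFixedPt, Equiv.Perm.inv_eq_iff_eq, eq_comm]

/-- The sign as a linear character. -/
noncomputable def signC : Equiv.Perm (Fin 3) →* ℂˣ :=
  (Units.map (Int.castRingHom ℂ).toMonoidHom).comp Equiv.Perm.sign

theorem s3Fun_eq (σ : Equiv.Perm (Fin 3)) :
    s3Fun σ = 2 + (signC σ : ℂ) - permRep.character σ := by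
  have key : ∀ τ : Equiv.Perm (Fin 3), (if τ ^ 3 = 1 ∧ τ ≠ 1 then (3 : ℤ) else 0) =
      2 + ((Equiv.Perm.sign τ : ℤˣ) : ℤ) - ((Finset.univ.filter fun i => τ i = i).card : ℤ) := by
    decide +kernel
  rw [permRep_char, s3Fun]
  have h := congrArg (fun z : ℤ => (z : ℂ)) (key σ)
  push_cast [apply_ite (fun z : ℤ => (z : ℂ))] at h
  simpa [signC] using h

theorem isGenChar_s3Fun_comp {H : Type u} [Group H] [Finite H] (π : H →* Equiv.Perm (Fin 3)) :
    IsGeneralizedCharacter H (fun h => s3Fun (π h)) := by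
  haveI := Fintype.ofFinite H
  have h1 : IsCharacter H (fun h => (1 : ℂ) + (fun h => (1 : ℂ) + (signC.comp π h : ℂ)) h) :=
    isCharacter_add isCharacter_one (isCharacter_add isCharacter_one
      (isCharacter_of_irr (isIrrCharacter_linear (signC.comp π))))
  have h2 : IsCharacter H (fun h => permRep.character (π h)) :=
    isCharacter_comp (isCharacter_character permRep) π
  have h := isGenChar_sub (isGenChar_of_char h1) (isGenChar_of_char h2)
  convert h using 1
  funext h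
  simp only [Pi.sub_apply, s3Fun_eq, MonoidHom.comp_apply]
  ring

theorem sum_comp {H K : Type*} [Group H] [Fintype H] [Group K] [Fintype K] [DecidableEq K] (π : H →* K)
    (hπ : Function.Surjective π) (F : K → ℂ) :
    (Nat.card K : ℂ) * ∑ h : H, F (π h) = (Nat.card H : ℂ) * ∑ k : K, F k := by
  have hfib : ∀ k : K, (Finset.univ.filter fun h => π h = k).card = (Finset.univ.filter fun h => π h = 1).card :=
    fun k => MonoidHom.card_fiber_eq_of_mem_range π (hπ k) ⟨1, map_one π⟩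
  have e1 : ∀ F' : K → ℂ, ∑ h : H, F' (π h) =
      ((Finset.univ.filter fun h => π h = 1).card : ℂ) * ∑ k : K, F' k := fun F' => by
    rw [← Finset.sum_fiberwise_of_maps_to (t := Finset.univ) (g := π) (fun h _ => Finset.mem_univ _), Finset.mul_sum]
    refine Finset.sum_congr rfl fun k _ => ?_
    rw [Finset.sum_congr rfl (fun h hh => by rw [(Finset.mem_filter.mp hh).2]), Finset.sum_const, hfib, nsmul_eq_mul]
  have e2 := e1 (fun _ => 1)
  simp only [Finset.sum_const, Finset.card_univ, nsmul_eq_mul, mul_one] at e2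
  rw [Nat.card_eq_fintype_card, Nat.card_eq_fintype_card, e2, e1 F]
  ring

/-- The kernel lemma. -/
theorem exists_normal_of_no_product (H : Subgroup G) (π : H →* Equiv.Perm (Fin 3)) (hπ : Function.Surjective π)
    (hTI : ∀ (g : G) (s : H), π s ^ 3 = 1 → π s ≠ 1 → ∀ hs : g * s * g⁻¹ ∈ H,
      π ⟨_, hs⟩ ^ 3 = 1 → π ⟨_, hs⟩ ≠ 1 → g ∈ H)
    {b : G} (hb : b * b = 1)
    (hno : ∀ h : H, π h ^ 3 = 1 → π h ≠ 1 → ∀ x : G, IsConj b x → ¬ IsConj b (x⁻¹ * h)) :
    ∃ N : Subgroup G, N.Normal ∧ b ∈ N ∧ N ≠ ⊤ := by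
  classical
  haveI := Fintype.ofFinite G
  set f : H → ℂ := fun h => s3Fun (π h) with hf
  have hgen : IsGeneralizedCharacter H f := isGenChar_s3Fun_comp π
  have hfcl : IsClassFunction H f := (isGenChar_iff_coeff_int.mp hgen).1
  have hf0 : ∀ h : H, ¬ (π h ^ 3 = 1 ∧ π h ≠ 1) → f h = 0 := fun h hh => by simp only [hf, s3Fun]; rw [if_neg hh]
  have hf1 : f 1 = 0 := hf0 1 fun h => h.2 (map_one π)
  set τ := indFun H f with hτ
  have hτgen : IsGeneralizedCharacter G τ := isGenChar_indFun H hgen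
  obtain ⟨c, hτeq, hcoef, hcsq⟩ := classInner_self_eq_sum_sq hτgen
  let S : Set G := {g | ∃ hg : g ∈ H, π ⟨g, hg⟩ ^ 3 = 1 ∧ π ⟨g, hg⟩ ≠ 1}
  have hfS : ∀ x : H, (x : G) ∉ S → f x = 0 := fun x hx => hf0 x fun h => hx ⟨x.2, h⟩
  have hTI' : ∀ g : G, g ∉ H → ∀ s ∈ S, g * s * g⁻¹ ∈ S → s = 1 := by
    rintro g hg s ⟨hs, h1, h2⟩ ⟨hs', h3, h4⟩
    exact absurd (hTI g ⟨s, hs⟩ h1 h2 hs' h3 h4) hg
  have hnorm : classInner τ τ = 3 := by
    rw [hτ, classInner_indFun_of_TI H S hTI' hfcl hfS hfS hf1]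
    have key := sum_comp π hπ (fun σ => s3Fun σ * conj (s3Fun σ))
    have hval : ∑ σ : Equiv.Perm (Fin 3), s3Fun σ * conj (s3Fun σ) = 18 := by
      have : ((Finset.univ : Finset (Equiv.Perm (Fin 3))).filter fun σ => σ ^ 3 = 1 ∧ σ ≠ 1).card = 2 := by
        decide +kernel
      rw [Finset.sum_congr rfl (fun σ _ => show s3Fun σ * conj (s3Fun σ) =
        if σ ^ 3 = 1 ∧ σ ≠ 1 then (9 : ℂ) else 0 by unfold s3Fun; split <;> norm_num [map_ofNat]),
        ← Finset.sum_filter, Finset.sum_const, this]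
      norm_num
    rw [hval, show (Nat.card (Equiv.Perm (Fin 3)) : ℂ) = 6 by
      rw [Nat.card_perm, Nat.card_fin]; norm_num [Nat.factorial]] at key
    have hH : (Nat.card H : ℂ) ≠ 0 := Nat.cast_ne_zero.mpr Nat.card_pos.ne'
    show (Nat.card H : ℂ)⁻¹ * ∑ h : H, f h * conj (f h) = 3
    have e : ∑ h : H, f h * conj (f h) = 3 * (Nat.card H : ℂ) := by
      apply mul_left_cancel₀ (show (6 : ℂ) ≠ 0 by norm_num)
      rw [key]; ring
    rw [e]
    field_simp
  have hsq : ∑ χ : IrrCharacter G, c χ ^ 2 = 3 := by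
    have : ((∑ χ : IrrCharacter G, c χ ^ 2 : ℤ) : ℂ) = 3 := by rw [← hcsq, hnorm]
    exact_mod_cast this
  let triv : IrrCharacter G := ⟨fun _ => 1, isIrrCharacter_one⟩
  have htriv : c triv = 1 := by
    have h := hcoef triv
    rw [hτ, frobenius_reciprocity H f (isClassFunction_irr triv.2)] at h
    have key := sum_comp π hπ s3Fun
    have hval : ∑ σ : Equiv.Perm (Fin 3), s3Fun σ = 6 := by
      have : ((Finset.univ : Finset (Equiv.Perm (Fin 3))).filter fun σ => σ ^ 3 = 1 ∧ σ ≠ 1).card = 2 := by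
        decide +kernel
      simp only [s3Fun]
      rw [← Finset.sum_filter, Finset.sum_const, this]
      norm_num
    rw [hval, show (Nat.card (Equiv.Perm (Fin 3)) : ℂ) = 6 by
      rw [Nat.card_perm, Nat.card_fin]; norm_num [Nat.factorial]] at key
    have hH : (Nat.card H : ℂ) ≠ 0 := Nat.cast_ne_zero.mpr Nat.card_pos.ne'
    have e : classInner f (fun h : H => (triv : G → ℂ) h) = 1 := by
      show (Nat.card H : ℂ)⁻¹ * ∑ h : H, f h * conj (1 : ℂ) = 1
      simp only [map_one, mul_one]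
      rw [show ∑ h : H, f h = (Nat.card H : ℂ) from mul_left_cancel₀ (show (6 : ℂ) ≠ 0 by norm_num)
        (by rw [key]; ring)]
      exact inv_mul_cancel₀ hH
    rw [e] at h
    exact_mod_cast h.symm
  -- exactly two further constituents
  set s := (Finset.univ.erase triv).filter fun χ => c χ ≠ 0 with hs
  have hrest : ∑ χ ∈ s, c χ ^ 2 = 2 := by
    rw [← Finset.add_sum_erase _ _ (Finset.mem_univ triv), htriv] at hsq
    rw [hs, Finset.sum_filter_of_ne (fun χ _ h => by intro e; rw [e] at h; simp at h)]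
    linarith
  have hone : ∀ χ ∈ s, c χ ^ 2 = 1 := fun χ hχ => by
    have h1 : c χ ^ 2 ≤ 2 := hrest ▸ Finset.single_le_sum (f := fun χ => c χ ^ 2) (fun _ _ => sq_nonneg _) hχ
    have h2 : c χ ≠ 0 := (Finset.mem_filter.mp hχ).2
    have h3 : -1 ≤ c χ ∧ c χ ≤ 1 := ⟨by nlinarith, by nlinarith⟩
    rcases (show c χ = 1 ∨ c χ = -1 by omega) with e | e <;> rw [e] <;> norm_num
  have hcard : s.card = 2 := by
    rw [Finset.sum_congr rfl hone, Finset.sum_const, nsmul_one] at hrest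
    exact_mod_cast hrest
  obtain ⟨χ₁, χ₂, h12, hs12⟩ := Finset.card_eq_two.mp hcard
  have hmem₁ : χ₁ ∈ s := by rw [hs12]; simp
  have hmem₂ : χ₂ ∈ s := by rw [hs12]; simp
  have hsum : ∀ F : IrrCharacter G → ℂ, ∑ χ : IrrCharacter G, (c χ : ℂ) * F χ =
      F triv + (c χ₁ : ℂ) * F χ₁ + (c χ₂ : ℂ) * F χ₂ := fun F => by
    rw [← Finset.add_sum_erase _ _ (Finset.mem_univ triv), htriv, Int.cast_one, one_mul, add_assoc,
      ← Finset.sum_pair (f := fun χ => (c χ : ℂ) * F χ) h12, ← hs12, hs,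
      Finset.sum_filter_of_ne (fun χ _ h => by intro e; rw [e] at h; simp at h)]
  -- values at the identity and at the involution
  have hτval : ∀ g : G, g * g = 1 → (c χ₁ : ℂ) * (χ₁ : G → ℂ) g + (c χ₂ : ℂ) * (χ₂ : G → ℂ) g = -1 := by
    intro g hg
    have h0 : τ g = 0 := by
      have : ∀ x : G, extendByZero H f (x⁻¹ * g * x) = 0 := fun x => by
        by_cases hm : x⁻¹ * g * x ∈ H
        · rw [extendByZero_of_mem _ _ hm]
          refine hf0 _ fun h => h.2 ?_
          have h2 : (⟨_, hm⟩ : H) * ⟨_, hm⟩ = 1 := Subtype.ext (by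
            show x⁻¹ * g * x * (x⁻¹ * g * x) = 1
            rw [show x⁻¹ * g * x * (x⁻¹ * g * x) = x⁻¹ * (g * g) * x by group, hg]; group)
          have h2' := congrArg π h2
          rw [map_mul, map_one] at h2'
          have h3 := h.1
          rw [pow_succ, pow_two, h2', one_mul] at h3
          exact h3
        · exact extendByZero_of_not_mem _ _ hm
      simp [hτ, indFun, this]
    have e := congrFun hτeq g
    rw [h0, Finset.sum_apply] at e
    simp only [Pi.smul_apply, smul_eq_mul] at e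
    rw [hsum (fun χ => (χ : G → ℂ) g)] at e
    linear_combination -e
  -- the class equation
  let A : Finset G := Finset.univ.filter fun x => IsConj b x
  have hAinv : ∀ x ∈ A, ∀ h : G, h * x * h⁻¹ ∈ A := fun x hx h =>
    Finset.mem_filter.mpr ⟨Finset.mem_univ _, (Finset.mem_filter.mp hx).2.trans (isConj_iff.mpr ⟨h, rfl⟩)⟩
  have hAsum : ∀ χ : IrrCharacter G, ∑ x ∈ A, (χ : G → ℂ) x = (A.card : ℂ) * (χ : G → ℂ) b := fun χ => by
    rw [Finset.sum_congr rfl fun x hx =>
      (isClassFunction_iff_isConj.mp (isClassFunction_irr χ.2) b x (Finset.mem_filter.mp hx).2).symm,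
      Finset.sum_const, nsmul_eq_mul]
  have hzero : ∀ h : H, f h ≠ 0 →
      ∑ χ : IrrCharacter G, (∑ x ∈ A, (χ : G → ℂ) x) ^ 2 * conj ((χ : G → ℂ) h) / (χ : G → ℂ) 1 = 0 := fun h hh => by
    have hh' : π h ^ 3 = 1 ∧ π h ≠ 1 := not_not.mp fun e => hh (hf0 h e)
    rw [← BSW.card_pairs A hAinv (h : G), Finset.card_eq_zero.mpr, Nat.cast_zero, mul_zero]
    refine Finset.filter_eq_empty_iff.mpr fun x hx hy => ?_
    exact hno h hh'.1 hh'.2 x (Finset.mem_filter.mp hx).2 (Finset.mem_filter.mp hy).2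
  have hkey : ∑ χ : IrrCharacter G, (c χ : ℂ) * ((∑ x ∈ A, (χ : G → ℂ) x) ^ 2 / (χ : G → ℂ) 1) = 0 := by
    have e1 : ∀ χ : IrrCharacter G, (c χ : ℂ) = (Nat.card H : ℂ)⁻¹ * ∑ h : H, f h * conj ((χ : G → ℂ) h) :=
      fun χ => by
        rw [← hcoef χ, hτ, frobenius_reciprocity H f (isClassFunction_irr χ.2)]
        rfl
    simp only [e1, mul_assoc, Finset.sum_mul, Finset.mul_sum]
    rw [Finset.sum_comm]
    refine Finset.sum_eq_zero fun h _ => ?_
    by_cases hh : f h = 0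
    · simp [hh]
    · have hz : ∑ χ : IrrCharacter G, conj ((χ : G → ℂ) h) * ((∑ x ∈ A, (χ : G → ℂ) x) ^ 2 / (χ : G → ℂ) 1) = 0 := by
        rw [← hzero h hh]
        exact Finset.sum_congr rfl fun χ _ => by ring
      rw [← Finset.mul_sum, ← Finset.mul_sum, hz, mul_zero, mul_zero]
  simp only [hAsum] at hkey
  rw [hsum (fun χ => ((A.card : ℂ) * (χ : G → ℂ) b) ^ 2 / (χ : G → ℂ) 1)] at hkey
  have hA0 : (A.card : ℂ) ≠ 0 := Nat.cast_ne_zero.mpr
    (Finset.card_pos.mpr ⟨b, Finset.mem_filter.mpr ⟨Finset.mem_univ _, IsConj.refl b⟩⟩).ne'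
  have hd1 := irr_ne_zero χ₁.2
  have hd2 := irr_ne_zero χ₂.2
  have hs1 : ((c χ₁ : ℂ)) ^ 2 = 1 := by exact_mod_cast hone χ₁ hmem₁
  have hs2 : ((c χ₂ : ℂ)) ^ 2 = 1 := by exact_mod_cast hone χ₂ hmem₂
  have v1 := hτval 1 (mul_one 1)
  have v2 := hτval b hb
  show ∃ N : Subgroup G, N.Normal ∧ b ∈ N ∧ N ≠ ⊤
  have e0 : (1 : ℂ) + (c χ₁ : ℂ) * ((χ₁ : G → ℂ) b) ^ 2 / (χ₁ : G → ℂ) 1 +
      (c χ₂ : ℂ) * ((χ₂ : G → ℂ) b) ^ 2 / (χ₂ : G → ℂ) 1 = 0 := by
    have ht : ∀ g : G, (triv : G → ℂ) g = 1 := fun _ => rfl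
    simp only [ht] at hkey
    apply mul_left_cancel₀ (pow_ne_zero 2 hA0)
    rw [mul_zero]
    linear_combination hkey
  set d1 := (c χ₁ : ℂ) * (χ₁ : G → ℂ) 1
  set z1 := (c χ₁ : ℂ) * (χ₁ : G → ℂ) b
  set d2 := (c χ₂ : ℂ) * (χ₂ : G → ℂ) 1
  set z2 := (c χ₂ : ℂ) * (χ₂ : G → ℂ) b
  have hc1 : (c χ₁ : ℂ) ≠ 0 := fun e => by rw [e] at hs1; norm_num at hs1
  have hc2 : (c χ₂ : ℂ) ≠ 0 := fun e => by rw [e] at hs2; norm_num at hs2
  have e1 : d1 * d2 + z1 ^ 2 * d2 + z2 ^ 2 * d1 = 0 := by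
    field_simp at e0
    simp only [d1, z1, d2, z2]
    linear_combination (c χ₁ : ℂ) * (c χ₂ : ℂ) * e0 +
      (c χ₁ : ℂ) * (c χ₂ : ℂ) * ((χ₂ : G → ℂ) 1) * ((χ₁ : G → ℂ) b) ^ 2 * (0 : ℂ)
  have e2 : (z1 - d1) ^ 2 = 0 := by
    linear_combination -e1 + (d1 + z1 ^ 2) * v1 + d1 * (z2 - 1 - z1) * v2
  have hker : (χ₁ : G → ℂ) b = (χ₁ : G → ℂ) 1 :=
    mul_left_cancel₀ hc1 (sub_eq_zero.mp (sq_eq_zero_iff.mp e2))
  refine ⟨charKernel _ (isCharacter_of_irr χ₁.2), inferInstance, (mem_charKernel _ b).mpr hker, fun htop => ?_⟩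
  have hall : ∀ g, (χ₁ : G → ℂ) g = (χ₁ : G → ℂ) 1 := fun g =>
    (mem_charKernel _ g).mp (htop ▸ Subgroup.mem_top g)
  have hne : (χ₁ : G → ℂ) ≠ (triv : G → ℂ) := fun e =>
    (Finset.mem_erase.mp (Finset.mem_filter.mp hmem₁).1).1 (Subtype.ext e)
  have h0 := classInner_irr_ne χ₁.2 triv.2 hne
  have : classInner (χ₁ : G → ℂ) (triv : G → ℂ) = (χ₁ : G → ℂ) 1 := by
    show (Nat.card G : ℂ)⁻¹ * ∑ g : G, (χ₁ : G → ℂ) g * conj (1 : ℂ) = _
    simp only [map_one, mul_one, hall, Finset.sum_const, Finset.card_univ, nsmul_eq_mul, ← Nat.card_eq_fintype_card]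
    rw [← mul_assoc, inv_mul_cancel₀ (Nat.cast_ne_zero.mpr Nat.card_pos.ne'), one_mul]
  exact hd1 (this.symm.trans h0)

end CfsgLib.ThreeCC
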