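import Cfsg.Agent.Lib.ThreeCC.Square

set_option autoImplicit false

/-!
The group of order 108: three copies of `S₃` with an even number of reflections.
-/

namespace CfsgLib.ThreeCC

open scoped commutatorElement

/-- The parity of a dihedral element. -/
def parity : D3 → ZMod 2
  | DihedralGroup.r _ => 0
  | DihedralGroup.sr _ => 1

theorem parity_mul : ∀ x y : D3, parity (x * y) = parity x + parity y := by decide +kernel

theorem parity_inv : ∀ x : D3, parity x⁻¹ = parity x := by decide +kernel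

/-- The even part of `D3³`. -/
def cubeSub : Subgroup (D3 × D3 × D3) where
  carrier := {p | parity p.1 + parity p.2.1 + parity p.2.2 = 0}
  mul_mem' {p q} hp hq := by
    simp only [Set.mem_setOf_eq, Prod.fst_mul, Prod.snd_mul, parity_mul] at hp hq ⊢
    linear_combination hp + hq
  one_mem' := by decide +kernel
  inv_mem' {p} hp := by
    simp only [Set.mem_setOf_eq, Prod.fst_inv, Prod.snd_inv, parity_inv] at hp ⊢
    exact hp

instance : DecidablePred (· ∈ cubeSub) := fun p =>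
  decidable_of_iff (parity p.1 + parity p.2.1 + parity p.2.2 = 0) Iff.rfl

abbrev K27 := ↥cubeSub

def r0 : D3 := DihedralGroup.r 1
def s0 : D3 := DihedralGroup.sr 0

def U1 : K27 := ⟨(r0, 1, 1), by decide +kernel⟩
def U2 : K27 := ⟨(1, r0, 1), by decide +kernel⟩
def U3 : K27 := ⟨(1, 1, r0), by decide +kernel⟩
def A1 : K27 := ⟨(1, s0, s0), by decide +kernel⟩
def A2 : K27 := ⟨(s0, 1, s0), by decide +kernel⟩
def A3 : K27 := ⟨(s0, s0, 1), by decide +kernel⟩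

/-- The cyclic shift of the factors. -/
def shiftK : K27 ≃* K27 where
  toFun p := ⟨(p.1.2.2, p.1.1, p.1.2.1), by
    show parity p.1.2.2 + parity p.1.1 + parity p.1.2.1 = 0
    have h : parity p.1.1 + parity p.1.2.1 + parity p.1.2.2 = 0 := p.2
    linear_combination h⟩
  invFun p := ⟨(p.1.2.1, p.1.2.2, p.1.1), by
    show parity p.1.2.1 + parity p.1.2.2 + parity p.1.1 = 0
    have h : parity p.1.1 + parity p.1.2.1 + parity p.1.2.2 = 0 := p.2
    linear_combination h⟩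
  left_inv p := rfl
  right_inv p := rfl
  map_mul' p q := rfl

theorem shift_vals : shiftK U1 = U2 ∧ shiftK U2 = U3 ∧ shiftK U3 = U1 ∧ shiftK A1 = A2 ∧ shiftK A2 = A3 ∧
    shiftK A3 = A1 := by decide +kernel

/-- The first component. -/
def fstK : K27 →* D3 := (MonoidHom.fst D3 (D3 × D3)).comp cubeSub.subtype

theorem k27_card : Fintype.card K27 = 108 := by decide +kernel

theorem k27_pow_six : ∀ k : K27, k ^ 6 = 1 := by decide +kernel

theorem k27_fst_surj : ∀ x : D3, ∃ k : K27, fstK k = x := by decide +kernel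

set_option synthInstance.maxSize 10000 in
theorem k27_types : ∀ k : K27, k * k = 1 → k ≠ 1 →
    fstK k = 1 ∨ (∃ g, g * A2 * g⁻¹ = k) ∨ ∃ g, g * A3 * g⁻¹ = k := by decide +kernel

theorem k27_x : (A1 * U1) ^ 3 = A1 ∧ (A2 * U2) ^ 3 = A2 ∧ (A1 * U1) ^ 4 = U1 ∧ (A2 * U2) ^ 4 = U2 := by decide +kernel

theorem k27_real : (∃ g, g * (A1 * U1) * g⁻¹ = (A1 * U1)⁻¹) ∧ ∃ g, g * (A2 * U2) * g⁻¹ = (A2 * U2)⁻¹ := by
  decide +kernel

theorem k27_no_fusion : ∀ g : K27, g * U1 * g⁻¹ ≠ U2 := by decide +kernel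

theorem k27_cent_card : (Finset.univ.filter fun k : K27 => k * (A1 * U1) = (A1 * U1) * k).card = 6 ∧
    (Finset.univ.filter fun k : K27 => k * (A2 * U2) = (A2 * U2) * k).card = 6 := by decide +kernel

theorem k27_pow_four : ∀ k : K27, fstK k ^ 3 = 1 → fstK k ≠ 1 → k ^ 4 ≠ 1 := by decide +kernel

theorem k27_three : ∀ k : K27, k ^ 3 = 1 → ∃ i j l : Fin 3, k = U1 ^ i.1 * U2 ^ j.1 * U3 ^ l.1 := by decide +kernel

theorem k27_full : ∀ g : K27, ∃ i j l : Fin 3, ∃ e f : Fin 2,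
    g = U1 ^ i.1 * U2 ^ j.1 * U3 ^ l.1 * A1 ^ e.1 * A2 ^ f.1 := by decide +kernel

theorem k27_reflect : ∀ k : K27, fstK k ^ 3 ≠ 1 → ∃ i j l : Fin 3,
    k * (U1 ^ i.1 * U2 ^ j.1 * U3 ^ l.1) = A2 ∨ A1 * (k * (U1 ^ i.1 * U2 ^ j.1 * U3 ^ l.1)) = A2 := by decide +kernel

theorem k27_comm_fst : ∀ t n : D3, t ^ 3 = 1 → n ^ 3 = 1 → t * n * t⁻¹ * n⁻¹ = 1 := by decide +kernel

set_option synthInstance.maxSize 10000 in
theorem k27_misc : U1 ^ 3 = 1 ∧ U2 ^ 3 = 1 ∧ U3 ^ 3 = 1 ∧ U1 ≠ 1 ∧ U2 ≠ 1 ∧ U3 ≠ 1 ∧ A1 * A1 = 1 ∧ A1 ≠ 1 ∧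
    A1 * U2 * A1⁻¹ * U2⁻¹ = U2 ∧ A1 * U3 * A1⁻¹ * U3⁻¹ = U3 ∧ U2 * A1 * U2⁻¹ * A1⁻¹ = U2⁻¹ ∧
    U3 * A1 * U3⁻¹ * A1⁻¹ = U3⁻¹ ∧ fstK U1 ≠ 1 := by decide +kernel

theorem k27_cent : ∀ k : K27, k * U3 = U3 * k → (∃ l : Fin 3, k = U3 ^ l.1) ∨
    k * U1 * k⁻¹ * U1⁻¹ = U1 ∨ k * U2 * k⁻¹ * U2⁻¹ = U2 ∨
    (∃ j l : Fin 3, k * (U2 ^ j.1 * U3 ^ l.1) = U1 ∨ k * (U2 ^ j.1 * U3 ^ l.1) = U1⁻¹) ∨
    ∃ l : Fin 3, k * U3 ^ l.1 = U2 ∨ k * U3 ^ l.1 = U2⁻¹ := by decide +kernel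

/-- A model of the normalizer. -/
structure CubeModel {G : Type*} [Group G] [Finite G] (d : Setting G) where
  ι : K27 →* G
  inj : Function.Injective ι
  range : ι.range = Subgroup.normalizer ((d.T : Subgroup G) : Set G)

variable {G : Type*} [Group G] [Finite G] {d : Setting G} (m : CubeModel d)

/-- The model with the factors shifted. -/
def CubeModel.shift : CubeModel d where
  ι := m.ι.comp shiftK.toMonoidHom
  inj := m.inj.comp shiftK.injective
  range := by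
    rw [MonoidHom.range_comp, MonoidHom.range_eq_top.mpr shiftK.surjective, ← MonoidHom.range_eq_map]
    exact m.range

theorem CubeModel.mem {x : G} : x ∈ Subgroup.normalizer ((d.T : Subgroup G) : Set G) ↔ ∃ k, m.ι k = x := by
  rw [← m.range]; rfl

theorem CubeModel.three_mem {k : K27} (h : k ^ 3 = 1) : m.ι k ∈ (d.T : Subgroup G) :=
  d.mem_T_of_pow (m.mem.mpr ⟨k, rfl⟩) (by rw [← map_pow, h, map_one])

theorem CubeModel.ne_one {k : K27} (h : k ≠ 1) : m.ι k ≠ 1 := fun e => h (m.inj (e.trans (map_one m.ι).symm))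

theorem CubeModel.not_conj : ¬ IsConj (m.ι A1) (m.ι A2) := by
  obtain ⟨e1, e2, e3, e4⟩ := k27_x
  obtain ⟨⟨g1, hg1⟩, ⟨g2, hg2⟩⟩ := k27_real
  obtain ⟨h13, h23, -, h1, h2, -⟩ := k27_misc
  rw [← e1, ← e2, map_pow, map_pow]
  have hcard : ∀ k t : K27, k ^ 4 = t → t ^ 3 = 1 → t ≠ 1 →
      (Finset.univ.filter fun j : K27 => j * k = k * j).card = 6 →
      Nat.card (Subgroup.centralizer ({m.ι k} : Set G)) = 6 := by
    intro k t hk ht ht1 hc
    rw [← hc, ← Fintype.card_subtype, ← Nat.card_eq_fintype_card]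
    refine (Nat.card_congr (Equiv.ofBijective (fun j : {j : K27 // j * k = k * j} =>
      (⟨m.ι j.1, Subgroup.mem_centralizer_singleton_iff.mpr (by rw [← map_mul, j.2, map_mul])⟩ :
        Subgroup.centralizer ({m.ι k} : Set G))) ⟨fun a b h => Subtype.ext (m.inj (congrArg Subtype.val h)),
        fun x => ?_⟩)).symm
    have hx : (x : G) * m.ι k = m.ι k * x := Subgroup.mem_centralizer_singleton_iff.mp x.2
    have hxN := d.cent _ (m.three_mem ht) (m.ne_one ht1)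
      (Subgroup.mem_centralizer_singleton_iff.mpr (show (x : G) * m.ι t = m.ι t * x by
        rw [← hk, map_pow]; exact (Commute.pow_right hx 4).eq))
    obtain ⟨j, hj⟩ := m.mem.mp hxN
    exact ⟨⟨j, m.inj (by rw [map_mul, map_mul, hj, hx])⟩, Subtype.ext hj⟩
  refine not_isConj_of_centralizers ?_ ?_ ?_ ?_ ?_ ?_
  · rw [← map_pow, k27_pow_six, map_one]
  · rw [← map_pow, k27_pow_six, map_one]
  · exact isConj_iff.mpr ⟨m.ι g1, by rw [← map_inv, ← map_mul, ← map_mul, hg1, map_inv]⟩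
  · exact isConj_iff.mpr ⟨m.ι g2, by rw [← map_inv, ← map_mul, ← map_mul, hg2, map_inv]⟩
  · intro hc
    obtain ⟨g, hg⟩ := isConj_iff.mp hc
    have h4 : g * m.ι U1 * g⁻¹ = m.ι U2 := by
      rw [← e3, ← e4, map_pow, map_pow, ← hg, conj_pow]
    obtain ⟨k, rfl⟩ := m.mem.mp (d.ctrl (m.three_mem h13) (m.ne_one h1) (h4 ▸ m.three_mem h23))
    exact k27_no_fusion k (m.inj (by rw [map_mul, map_mul, map_inv]; exact h4))
  · rw [hcard _ U1 e3 h13 h1 k27_cent_card.1, hcard _ U2 e4 h23 h2 k27_cent_card.2]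
    norm_num

theorem CubeModel.not_conj_three : ¬ IsConj (m.ι A1) (m.ι A3) := by
  intro h
  have h' := m.shift.shift.not_conj
  apply h'
  show IsConj (m.ι (shiftK (shiftK A1))) (m.ι (shiftK (shiftK A2)))
  obtain ⟨-, -, -, a1, a2, a3⟩ := shift_vals
  rw [a1, a2, a3]
  exact h.symm

end CfsgLib.ThreeCC
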